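import Cfsg.Agent.Lib.Solvable.Cores
import Cfsg.Agent.Lib.OddOrder.Basic
import Cfsg.Agent.Lib.Fusion.Alperin

/-!
Left-normed commutator values and elementary consequences of the coprime commutator condition
(towards the criterion for nilpotency of a term of the lower central series).
-/

set_option autoImplicit false
open scoped commutatorElement

namespace CfsgLib.GammaCrit

variable {G : Type*} [Group G] {H : Type*} [Group H]

/-- The left-normed commutator values of length `n + 1`. -/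
def Cm (G : Type*) [Group G] : ℕ → Set G
  | 0 => Set.univ
  | n + 1 => {x | ∃ c ∈ Cm G n, ∃ g, x = ⁅c, g⁆}

theorem cm_map (f : G →* H) : ∀ (n : ℕ) {x : G}, x ∈ Cm G n → f x ∈ Cm H n
  | 0, _, _ => trivial
  | n + 1, _, ⟨c, hc, g, hx⟩ => ⟨f c, cm_map f n hc, f g, by rw [hx, map_commutatorElement]⟩

theorem cm_lift {f : G →* H} (hf : Function.Surjective f) :
    ∀ (n : ℕ) {y : H}, y ∈ Cm H n → ∃ x ∈ Cm G n, f x = y
  | 0, y, _ => ⟨(hf y).choose, trivial, (hf y).choose_spec⟩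
  | n + 1, _, ⟨c, hc, g, hy⟩ => by
    obtain ⟨c', hc', rfl⟩ := cm_lift hf n hc
    obtain ⟨g', rfl⟩ := hf g
    exact ⟨⁅c', g'⁆, ⟨c', hc', g', rfl⟩, by rw [hy, map_commutatorElement]⟩

theorem cm_conj {n : ℕ} {x : G} (hx : x ∈ Cm G n) (g : G) : g * x * g⁻¹ ∈ Cm G n :=
  cm_map (MulAut.conj g).toMonoidHom n hx

theorem cm_succ_subset : ∀ n : ℕ, Cm G (n + 1) ⊆ Cm G n
  | 0 => fun _ _ => trivial
  | n + 1 => fun _ ⟨c, hc, g, hx⟩ => ⟨c, cm_succ_subset n hc, g, hx⟩

theorem cm_comm {n : ℕ} {x : G} (hx : x ∈ Cm G n) (g : G) : ⁅x, g⁆ ∈ Cm G n :=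
  cm_succ_subset n ⟨x, hx, g, rfl⟩

theorem cm_le_lcs : ∀ (n : ℕ) {x : G}, x ∈ Cm G n → x ∈ (⊤ : Subgroup G).lowerCentralSeries n
  | 0, x, _ => Subgroup.mem_top x
  | n + 1, _, ⟨c, hc, g, hx⟩ => by
    rw [hx, Subgroup.lowerCentralSeries_succ]
    exact Subgroup.commutator_mem_commutator (cm_le_lcs n hc) (Subgroup.mem_top g)

theorem lcs_eq_bot_of_cm : ∀ (n : ℕ) (H : Type*) [Group H], (∀ x ∈ Cm H n, x = 1) →
    (⊤ : Subgroup H).lowerCentralSeries n = ⊥
  | 0, H, _, h => by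
    rw [Subgroup.lowerCentralSeries_zero]
    exact (Subgroup.eq_bot_iff_forall _).mpr fun x _ => h x trivial
  | n + 1, H, _, h => by
    set q := QuotientGroup.mk' (Subgroup.center H) with hq
    have h1 : ∀ x ∈ Cm (H ⧸ Subgroup.center H) n, x = 1 := by
      intro x hx
      obtain ⟨c, hc, rfl⟩ := cm_lift (QuotientGroup.mk'_surjective _) n hx
      rw [QuotientGroup.mk'_apply, QuotientGroup.eq_one_iff, Subgroup.mem_center_iff]
      exact fun g => (commutatorElement_eq_one_iff_mul_comm.mp (h _ ⟨c, hc, g, rfl⟩)).symm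
    have h2 := lcs_eq_bot_of_cm n _ h1
    have h3 : (⊤ : Subgroup H).lowerCentralSeries n ≤ Subgroup.center H := by
      intro x hx
      have := lowerCentralSeries.map q n (Subgroup.mem_map_of_mem q hx)
      rw [h2, Subgroup.mem_bot, hq, QuotientGroup.mk'_apply, QuotientGroup.eq_one_iff] at this
      exact this
    rw [Subgroup.lowerCentralSeries_succ, Subgroup.commutator_eq_bot_iff_le_centralizer]
    exact h3.trans (Subgroup.center_le_centralizer _)

theorem lcs_le_of_cm (n : ℕ) (N : Subgroup G) [N.Normal] (h : ∀ x ∈ Cm G n, x ∈ N) :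
    (⊤ : Subgroup G).lowerCentralSeries n ≤ N := by
  have h2 := lcs_eq_bot_of_cm n (G ⧸ N) (fun x hx => by
    obtain ⟨c, hc, rfl⟩ := cm_lift (QuotientGroup.mk'_surjective _) n hx
    exact (QuotientGroup.eq_one_iff c).mpr (h c hc))
  intro x hx
  have := lowerCentralSeries.map (QuotientGroup.mk' N) n (Subgroup.mem_map_of_mem _ hx)
  rw [h2, Subgroup.mem_bot, QuotientGroup.mk'_apply, QuotientGroup.eq_one_iff] at this
  exact this

theorem foldl_iff : ∀ (n : ℕ) (x : G),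
    (∃ f : Fin (n + 1) → G,
      x = ((List.ofFn f).tail).foldl (fun a b => a * b * a⁻¹ * b⁻¹) (f 0)) ↔ x ∈ Cm G n := by
  have key : ∀ (n : ℕ) (f : Fin (n + 2) → G),
      ((List.ofFn f).tail).foldl (fun a b => a * b * a⁻¹ * b⁻¹) (f 0) =
      ⁅((List.ofFn fun i : Fin (n + 1) => f i.castSucc).tail).foldl
          (fun a b => a * b * a⁻¹ * b⁻¹) (f 0), f (Fin.last _)⁆ := by
    intro n f
    rw [List.ofFn_succ' f, List.concat_eq_append,
      List.tail_append_of_ne_nil (List.ne_nil_of_length_pos (by simp)), List.foldl_append]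
    rfl
  intro n
  induction n with
  | zero => exact fun x => ⟨fun _ => trivial, fun _ => ⟨fun _ => x, by simp⟩⟩
  | succ n ih =>
    intro x
    constructor
    · rintro ⟨f, rfl⟩
      rw [key n f]
      exact ⟨_, (ih _).mp ⟨fun i => f i.castSucc, rfl⟩, _, rfl⟩
    · rintro ⟨c, hc, g, rfl⟩
      obtain ⟨f, rfl⟩ := (ih c).mpr hc
      refine ⟨Fin.snoc f g, ?_⟩
      rw [key n (Fin.snoc f g)]
      have h0 : (Fin.snoc f g : Fin (n + 2) → G) 0 = f 0 :=
        Fin.snoc_castSucc (α := fun _ => G) g f 0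
      simp only [Fin.snoc_castSucc, Fin.snoc_last, h0]

/-- `n`-fold iterated commutator with `h`. -/
def itc (h : G) : ℕ → G → G
  | 0, u => u
  | n + 1, u => itc h n ⁅u, h⁆

theorem itc_succ' (h : G) : ∀ (n : ℕ) (u : G), itc h (n + 1) u = ⁅itc h n u, h⁆
  | 0, _ => rfl
  | n + 1, u => itc_succ' h n ⁅u, h⁆

theorem itc_mem_cm (h u : G) : ∀ n : ℕ, itc h n u ∈ Cm G n
  | 0 => trivial
  | n + 1 => ⟨_, itc_mem_cm h u n, h, itc_succ' h n u⟩

theorem map_itc (f : G →* H) (h : G) : ∀ (n : ℕ) (u : G), f (itc h n u) = itc (f h) n (f u)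
  | 0, _ => rfl
  | n + 1, u => by
    show f (itc h n ⁅u, h⁆) = itc (f h) n ⁅f u, f h⁆
    rw [map_itc f h n, map_commutatorElement]

theorem comm_mem {P : Subgroup G} {h u : G} (hh : h ∈ Subgroup.normalizer (P : Set G))
    (hu : u ∈ P) : ⁅u, h⁆ ∈ P := by
  rw [commutatorElement_def, show u * h * u⁻¹ * h⁻¹ = u * (h * u⁻¹ * h⁻¹) by group]
  exact P.mul_mem hu ((Subgroup.mem_normalizer_iff.mp hh u⁻¹).mp (P.inv_mem hu))

theorem itc_mem {P : Subgroup G} {h : G} (hh : h ∈ Subgroup.normalizer (P : Set G)) :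
    ∀ (n : ℕ) {u : G}, u ∈ P → itc h n u ∈ P
  | 0, _, hu => hu
  | n + 1, _, hu => itc_mem hh n (comm_mem hh hu)

theorem eq_one_of_comm_comm {n u : G} (hc : (orderOf n).Coprime (orderOf ⁅u, n⁆))
    (h : ⁅⁅u, n⁆, n⁆ = 1) : ⁅u, n⁆ = 1 := by
  set w := ⁅u, n⁆ with hw
  have hcw : Commute w n := commutatorElement_eq_one_iff_mul_comm.mp h
  have h2 : orderOf (w * n) = orderOf n :=
    (orderOf_eq_orderOf_iff).mpr fun m => by
      rw [show w * n = u * n * u⁻¹ by rw [hw, commutatorElement_def]; group, conj_pow,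
        conj_eq_one_iff]
  rw [hcw.orderOf_mul_eq_mul_orderOf_of_coprime hc.symm] at h2
  rcases Nat.eq_zero_or_pos (orderOf n) with h0 | h0
  · rw [h0, Nat.coprime_zero_left] at hc
    exact orderOf_eq_one_iff.mp hc
  · exact orderOf_eq_one_iff.mp (Nat.eq_of_mul_eq_mul_right h0 (h2.trans (one_mul _).symm))

/-- If an iterated commutator with a coprime normalising element vanishes, so does the first one. -/
theorem commute_of_itc {P : Subgroup G} {h : G} (hh : h ∈ Subgroup.normalizer (P : Set G))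
    (hc : ∀ a ∈ P, (orderOf h).Coprime (orderOf a)) :
    ∀ (n : ℕ) {u : G}, u ∈ P → itc h n u = 1 → Commute u h
  | 0, u, _, hu1 => by rw [show u = 1 from hu1]; exact Commute.one_left h
  | n + 1, u, hu, hu1 => by
    have h1 := commute_of_itc hh hc n (comm_mem hh hu) hu1
    exact commutatorElement_eq_one_iff_mul_comm.mp
      (eq_one_of_comm_comm (hc _ (comm_mem hh hu)) (commutatorElement_eq_one_iff_mul_comm.mpr h1))

theorem coprime_orderOf_of_card {P : Subgroup G} [Finite G] {h a : G}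
    (hc : (orderOf h).Coprime (Nat.card P)) (ha : a ∈ P) : (orderOf h).Coprime (orderOf a) :=
  hc.coprime_dvd_right (P.orderOf_dvd_natCard ha)

/-- An element of prime power order for `p`. -/
def PEl (p : ℕ) (x : G) : Prop := ∃ a : ℕ, x ^ p ^ a = 1

theorem PEl.orderOf {p : ℕ} (hp : p.Prime) {x : G} (h : PEl p x) :
    ∃ a, _root_.orderOf x = p ^ a := by
  obtain ⟨a, ha⟩ := h
  obtain ⟨b, -, hb⟩ := (Nat.dvd_prime_pow hp).mp (orderOf_dvd_of_pow_eq_one ha)
  exact ⟨b, hb⟩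

theorem pel_of_mem {p : ℕ} {P : Subgroup G} (hP : IsPGroup p P) {x : G} (hx : x ∈ P) :
    PEl p x := by
  obtain ⟨a, ha⟩ := hP ⟨x, hx⟩
  exact ⟨a, congrArg Subtype.val ha⟩

theorem PEl.map {p : ℕ} {x : G} (h : PEl p x) (f : G →* H) : PEl p (f x) := by
  obtain ⟨a, ha⟩ := h
  exact ⟨a, by rw [← map_pow, ha, map_one]⟩

theorem PEl.conj {p : ℕ} {x : G} (h : PEl p x) (g : G) : PEl p (g * x * g⁻¹) := by
  obtain ⟨a, ha⟩ := h
  exact ⟨a, by rw [conj_pow, ha]; group⟩

theorem PEl.isPGroup_zpowers {p : ℕ} {x : G} (h : PEl p x) :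
    IsPGroup p (Subgroup.zpowers x) := by
  obtain ⟨a, ha⟩ := h
  rintro ⟨y, m, rfl⟩
  refine ⟨a, Subtype.ext ?_⟩
  show (x ^ m) ^ p ^ a = 1
  rw [← zpow_natCast, zpow_comm, zpow_natCast, ha, one_zpow]

theorem PEl.coprime {p : ℕ} (hp : p.Prime) {x : G} (h : PEl p x) {m : ℕ} (hm : ¬ p ∣ m) :
    (_root_.orderOf x).Coprime m := by
  obtain ⟨a, ha⟩ := h.orderOf hp
  rw [ha]
  exact (hp.coprime_iff_not_dvd.mpr hm).pow_left a

theorem eq_one_of_pel {p q : ℕ} (hp : p.Prime) (hq : q.Prime) (hne : p ≠ q) {x : G}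
    (h1 : PEl p x) (h2 : PEl q x) : x = 1 := by
  obtain ⟨a, ha⟩ := h1.orderOf hp
  obtain ⟨b, hb⟩ := h2.orderOf hq
  rw [← orderOf_eq_one_iff]
  have h3 : (p ^ a).Coprime (q ^ b) := ((Nat.coprime_primes hp hq).mpr hne).pow a b
  rw [← ha, ← hb, Nat.coprime_self] at h3
  exact h3

/-- A power of `n₀` of `p`-power order with the same image, when the image has `p`-power order. -/
theorem exists_pel_lift [Finite G] {p : ℕ} (hp : p.Prime) (f : G →* H) (n₀ : G)
    (h : PEl p (f n₀)) : ∃ n ∈ Subgroup.zpowers n₀, PEl p n ∧ f n = f n₀ := by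
  obtain ⟨b, hb⟩ := h.orderOf hp
  obtain ⟨a, c, hc, hac⟩ :=
    Nat.exists_eq_pow_mul_and_not_dvd (orderOf_pos n₀).ne' p hp.ne_one
  have hcop : c.Coprime (p ^ b) := ((hp.coprime_iff_not_dvd.mpr hc).symm).pow_right b
  obtain ⟨t, ht⟩ := Nat.exists_mul_mod_eq_of_coprime (n := c) (k := p ^ b) 1 hcop
    (pow_pos hp.pos b).ne'
  refine ⟨n₀ ^ (c * t), Subgroup.npow_mem_zpowers _ _, ⟨a, ?_⟩, ?_⟩
  · rw [← pow_mul, show c * t * p ^ a = orderOf n₀ * t by rw [hac]; ring, pow_mul,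
      pow_orderOf_eq_one, one_pow]
  · rw [map_pow, ← pow_mod_orderOf, hb, ht.2, ← hb, pow_mod_orderOf, pow_one]

/-- A power of `n₀` of order prime to `p` with the same image, when the image has such order. -/
theorem exists_prime_lift [Finite G] {p : ℕ} (hp : p.Prime) (f : G →* H) (n₀ : G)
    (h : (orderOf (f n₀)).Coprime p) :
    ∃ n ∈ Subgroup.zpowers n₀, (orderOf n).Coprime p ∧ f n = f n₀ := by
  obtain ⟨a, c, hc, hac⟩ :=
    Nat.exists_eq_pow_mul_and_not_dvd (orderOf_pos n₀).ne' p hp.ne_one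
  have hcop : (p ^ a).Coprime (orderOf (f n₀)) := h.symm.pow_left a
  have hpos : orderOf (f n₀) ≠ 0 := fun h0 => by
    have := orderOf_map_dvd f n₀
    rw [h0, zero_dvd_iff] at this
    exact (orderOf_pos n₀).ne' this
  obtain ⟨t, ht⟩ := Nat.exists_mul_mod_eq_of_coprime (n := p ^ a) (k := orderOf (f n₀)) 1 hcop
    hpos
  refine ⟨n₀ ^ (p ^ a * t), Subgroup.npow_mem_zpowers _ _, ?_, ?_⟩
  · refine (hp.coprime_iff_not_dvd.mpr hc).symm.coprime_dvd_left (orderOf_dvd_of_pow_eq_one ?_)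
    rw [← pow_mul, show p ^ a * t * c = orderOf n₀ * t by rw [hac]; ring, pow_mul,
      pow_orderOf_eq_one, one_pow]
  · rw [map_pow, ← pow_mod_orderOf, ht.2, pow_mod_orderOf, pow_one]

/-- The abstract hypothesis on a set of elements. -/
structure Good (k : ℕ) (Y : Set G) : Prop where
  comm : ∀ y ∈ Y, ∀ g : G, ⁅y, g⁆ ∈ Y
  conj : ∀ y ∈ Y, ∀ g : G, g * y * g⁻¹ ∈ Y
  cm : Cm G k ⊆ Y
  cop : ∀ y ∈ Y, ∀ g : G, (orderOf y).Coprime (orderOf ⁅y, g⁆) → ⁅y, g⁆ = 1

theorem Good.subgroup {k : ℕ} {Y : Set G} (h : Good k Y) (K : Subgroup G) :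
    Good k ((fun y : K => (y : G)) ⁻¹' Y) where
  comm y hy g := h.comm _ hy g
  conj y hy g := h.conj _ hy g
  cm y hy := h.cm (cm_map K.subtype k hy)
  cop y hy g hc := by
    rw [← Subgroup.orderOf_coe, ← Subgroup.orderOf_coe (⁅y, g⁆)] at hc
    exact Subtype.ext (h.cop _ hy g hc)

/-- An element of the set commutes with every coprime subgroup that it normalises. -/
theorem Good.commute {k : ℕ} {Y : Set G} [Finite G] (h : Good k Y) {y : G} (hy : y ∈ Y)
    {V : Subgroup G} (hn : y ∈ Subgroup.normalizer (V : Set G))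
    (hc : (orderOf y).Coprime (Nat.card V)) {v : G} (hv : v ∈ V) : Commute y v := by
  refine commutatorElement_eq_one_iff_mul_comm.mp (h.cop y hy v ?_)
  refine coprime_orderOf_of_card hc ?_
  rw [commutatorElement_def]
  exact V.mul_mem ((Subgroup.mem_normalizer_iff.mp hn v).mp hv) (V.inv_mem hv)

/-- The order condition of the criterion gives the abstract hypothesis. -/
theorem good_of_order [Finite G] {k : ℕ}
    (h : ∀ x y : G, x ∈ Cm G k → y ∈ Cm G k → (orderOf x).Coprime (orderOf y) →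
      (∀ r : ℕ, r.Prime → r ∣ orderOf x * orderOf y → r ∣ orderOf (x * y)) ∨
        orderOf x * orderOf y ≤ orderOf (x * y)) : Good k (Cm G k) where
  comm _ hy g := cm_comm hy g
  conj _ hy g := cm_conj hy g
  cm := subset_rfl
  cop y hy g hc := by
    have hord : orderOf (g * y * g⁻¹) = orderOf y :=
      orderOf_eq_orderOf_iff.mpr fun m => by rw [conj_pow, conj_eq_one_iff]
    have hmul : ⁅y, g⁆ * (g * y * g⁻¹) = y := by rw [commutatorElement_def]; group
    have := h _ _ (cm_comm hy g) (cm_conj hy g) (by rw [hord]; exact hc.symm)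
    rw [hord, hmul] at this
    rcases this with h1 | h1
    · by_contra hne
      obtain ⟨r, hr, hd⟩ := Nat.exists_prime_and_dvd (fun e => hne (orderOf_eq_one_iff.mp e))
      exact hr.not_dvd_one (hc ▸ Nat.dvd_gcd (h1 r hr (hd.mul_right _)) hd)
    · have h2 : orderOf ⁅y, g⁆ ≤ 1 :=
        Nat.le_of_mul_le_mul_right (by simpa using h1) (orderOf_pos y)
      exact orderOf_eq_one_iff.mp (le_antisymm h2 (orderOf_pos _))

/-- An element lying in a normal subgroup of order prime to `q` for every prime `q` is trivial. -/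
theorem eq_one_of_complements [Finite G] {x : G}
    (h : ∀ q : ℕ, q.Prime → ∃ N : Subgroup G, N.Normal ∧ (Nat.card N).Coprime q ∧ x ∈ N) :
    x = 1 := by
  rw [← orderOf_eq_one_iff]
  refine Nat.eq_one_iff_not_exists_prime_dvd.mpr fun q hq hd => ?_
  obtain ⟨N, -, hN, hx⟩ := h q hq
  exact hq.coprime_iff_not_dvd.mp hN.symm (hd.trans (N.orderOf_dvd_natCard hx))

end CfsgLib.GammaCrit
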