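import Cfsg.Agent.Lib.Solvable.GammaCriterion.Global

/-!
Counting: no simple group carries a covering family.
-/

set_option autoImplicit false
open scoped commutatorElement
open CfsgLib.Solvable.Cores

namespace CfsgLib.GammaCrit

variable {Q : Type*} [Group Q] [Finite Q] {k : ℕ} {Cov : ℕ → Q → Prop}

/-- An element of prime power order in an owner with the same prime has the same owner. -/
theorem Ax.own_transfer (hA : Ax Q k Cov) {q : ℕ} (hq : q.Prime) {M : Subgroup Q} {z z' : Q}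
    (hzp : PEl q z) (h : Own Cov M z) (hz' : z' ∈ M) (hz'p : PEl q z') (hz'1 : z' ≠ 1) :
    Own Cov M z' := by
  obtain ⟨hz1, r, hr, S, hzS, rfl⟩ := h
  obtain rfl : q = r := by
    by_contra hne
    exact hz1 (eq_one_of_pel hq hr hne hzp (pel_of_mem S.2 hzS))
  haveI := Fact.mk hq
  exact hA.own_of_ms S (sylow_ne_bot hzS hz1) hz'p hz'1 hz'

theorem Ax.ker_ne (hA : Ax Q k Cov) {M : Subgroup Q} (hM : IsT Cov M) : ¬ M ≤ ker Cov M := by
  intro hle
  obtain ⟨q, hq, S, hS, hms⟩ := hM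
  haveI := Fact.mk hq
  subst hms
  set M := ms Cov q (S : Subgroup Q) with hMdef
  have hsup : sSup (owned Cov M) ≤ Cfsg.fittingSubgroup M := by
    refine sSup_le fun N hN => ?_
    haveI := hA.owned_normal M N hN
    obtain ⟨r, hr, T, hT, hmsT, rfl⟩ := hN
    haveI := Fact.mk hr
    exact le_fittingSubgroup (T.2.comap_subtype (K := M)).isNilpotent
  have hfit : Cfsg.fittingSubgroup M = ⊤ := by
    refine top_le_iff.mp fun x _ => hsup ?_
    obtain ⟨y, hy, hye⟩ := hle x.2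
    rwa [← Subtype.ext hye]
  haveI : Group.IsNilpotent M := fittingSubgroup_eq_top_iff.mp hfit
  have hSM := hA.sylow_le_ms S hS
  have h1 : ((S.subtype hSM : Sylow q M) : Subgroup M) ≤ _root_.commutator M := by
    intro x hx
    have := hA.sylow_le_commutator S hS (show (x : Q) ∈ S from hx)
    rw [← Subgroup.map_subtype_commutator M] at this
    obtain ⟨y, hy, he⟩ := this
    rwa [← Subtype.ext he]
  have h2 := sylow_eq_bot_of_le_commutator _ h1
  rw [Sylow.coe_subtype, Subgroup.subgroupOf_eq_bot] at h2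
  exact hS (by rw [disjoint_iff, inf_eq_left.mpr hSM] at h2; exact h2)

/-- The starting configuration. -/
theorem Ax.exists_pair (hA : Ax Q k Cov) :
    ∃ (M L H : Subgroup Q) (q r : ℕ) (t v : Q), q.Prime ∧ r.Prime ∧ Compl Cov M L ∧
      PEl q t ∧ Own Cov M t ∧ PEl r v ∧ v ∈ L ∧ Own Cov H v ∧ M ≠ H ∧ M ⊓ H = core Cov M L ∧
      t ∈ core Cov M L := by
  haveI := hA.simple
  obtain ⟨q₀, hq₀, x, -, hxp, hx1⟩ := exists_pp (H := (⊤ : Subgroup Q)) top_ne_bot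
  obtain ⟨_, -, hown⟩ := exists_own (Cov := Cov) hq₀ hxp hx1
  have hM₀ := isT_of_own hown
  obtain ⟨L₀, hL₀, -⟩ := hA.exists_compl hM₀
  obtain ⟨l, hl, u, hu, hup, hu1⟩ := exists_pp (H := L₀) fun h => hA.ker_ne hM₀ fun m hm => by
    obtain ⟨c, hc, a, ha, rfl⟩ := hL₀.cover m hm
    rw [h, Subgroup.mem_bot] at ha
    rwa [ha, mul_one]
  haveI := Fact.mk hl
  obtain ⟨S, huS, hown'⟩ := exists_own (Cov := Cov) hl hup hu1
  have hS := sylow_ne_bot huS hu1
  have hM := isT_of_own hown'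
  obtain ⟨L, hL, -⟩ := hA.exists_compl hM
  obtain ⟨r, hr, v, hv, hvp, hv1⟩ := exists_pp (H := L) fun h => hA.ker_ne hM fun m hm => by
    obtain ⟨c, hc, a, ha, rfl⟩ := hL.cover m hm
    rw [h, Subgroup.mem_bot] at ha
    rwa [ha, mul_one]
  haveI := Fact.mk hr
  obtain ⟨t, htS, htc, ht1⟩ : ∃ t ∈ S, Commute t v ∧ t ≠ 1 := by
    by_contra hne
    push Not at hne
    have hvn : v ∈ Subgroup.normalizer ((S : Subgroup Q) : Set Q) := by
      rw [← hA.ms_eq S hS]; exact hL.le hv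
    have hcov := hA.cov_of_fpf S hvn hne huS
    exact hA.compl_not_own hL₀ hu hup hu1
      (hA.cov_own (hA.isT_coatom hM₀) (hL₀.le hu) hcov hu1)
  obtain ⟨T, -, hH⟩ := exists_own (Cov := Cov) hr hvp hv1
  have hinter := hA.inter_eq hM hL hv hvp hH
  refine ⟨_, L, _, l, r, t, v, hl, hr, hL, pel_of_mem S.2 htS, ⟨ht1, l, hl, S, htS, rfl⟩, hvp, hv,
    hH, fun e => hA.compl_not_own hL hv hvp hv1 (e ▸ hH), hinter, ?_⟩
  rw [← hinter]
  exact ⟨hA.sylow_le_ms S hS htS, hA.own_centralizer hH htc.symm⟩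

theorem card_sdiff_one (H : Subgroup Q) :
    Nat.card {x : Q // x ∈ H ∧ x ≠ 1} = Nat.card H - 1 := by
  have h := Set.ncard_sdiff_singleton_of_mem (s := (H : Set Q)) H.one_mem
  rw [← Nat.card_coe_set_eq, ← Nat.card_coe_set_eq] at h
  exact h

theorem Ax.contradiction (hA : Ax Q k Cov) : False := by
  classical
  haveI := Fintype.ofFinite (Subgroup Q)
  obtain ⟨M, L, H₀, qt, qv, t, v, hqt, hqv, hL, htp, htM, hvp, hvL, hvH, hMH, hinter, htW⟩ :=
    hA.exists_pair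
  have hM := isT_of_own htM
  set W := core Cov M L with hW
  have hWM : W ≤ M := hinter.symm.le.trans inf_le_left
  let isO : Subgroup Q → Prop := fun H =>
    ∃ q, q.Prime ∧ ∃ z ∈ W, PEl q z ∧ Own Cov H z
  let 𝓗 : Finset (Subgroup Q) := Finset.univ.filter isO
  have hmem : ∀ H, H ∈ 𝓗 ↔ isO H := fun H => by simp [𝓗]
  have hM𝓗 : M ∈ 𝓗 := (hmem M).mpr ⟨qt, hqt, t, htW, htp, htM⟩
  have hH₀𝓗 : H₀ ∈ 𝓗 := (hmem H₀).mpr ⟨qv, hqv, v, Subgroup.mem_sup_right hvL, hvp, hvH⟩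
  -- every member decomposes
  have hdec : ∀ H ∈ 𝓗, ∃ L' : Subgroup Q, Compl Cov H L' ∧ core Cov H L' = W := by
    intro H hH
    obtain ⟨q, hq, z, hzW, hzp, hzH⟩ := (hmem H).mp hH
    haveI := Fact.mk hq
    by_cases e : H = M
    · subst e; exact ⟨L, hL, rfl⟩
    rcases hA.core_cases hL hzW hzp with ⟨hzK, -⟩ | hzL
    · exact absurd (hA.own_unique hzH ((hA.own_iff hzp hzH.1).mp hzK)) e
    have hMH' := hA.inter_eq hM hL hzL hzp hzH
    haveI := Fact.mk hqt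
    have htH : t ∈ H := ((hMH'.symm.le : W ≤ M ⊓ H) htW).2
    obtain ⟨-, -, hex⟩ := hA.exists_compl (isT_of_own hzH)
    obtain ⟨L', hL', htL'⟩ := hex qt hqt t htH htp htM.1 fun h => e (hA.own_unique h htM)
    refine ⟨L', hL', ?_⟩
    rw [← hA.inter_eq (isT_of_own hzH) hL' htL' htp htM, inf_comm, hMH']
  have hWle : ∀ H ∈ 𝓗, W ≤ H := by
    intro H hH
    obtain ⟨L', hL', e⟩ := hdec H hH
    rw [← e]
    exact sup_le (inf_le_left.trans (ker_le H)) hL'.le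
  have hpair : ∀ H ∈ 𝓗, ∀ H' ∈ 𝓗, H ≠ H' → H ⊓ H' = W := by
    intro H hH H' hH' hne
    obtain ⟨L', hL', e⟩ := hdec H hH
    obtain ⟨q, hq, z, hzW, hzp, hzH'⟩ := (hmem H').mp hH'
    haveI := Fact.mk hq
    obtain ⟨-, -, y, -, -, hyH⟩ := (hmem H).mp hH
    rcases hA.core_cases hL' (e.symm.le hzW) hzp with ⟨hzK, -⟩ | hzL
    · exact absurd (hA.own_unique ((hA.own_iff hzp hzH'.1).mp hzK) hzH') hne
    · rw [hA.inter_eq (isT_of_own hyH) hL' hzL hzp hzH', e]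
  have hcoat : ∀ H ∈ 𝓗, IsCoatom H ∧ H ≠ ⊥ := by
    intro H hH
    obtain ⟨q, hq, z, hzW, hzp, hzH⟩ := (hmem H).mp hH
    refine ⟨hA.own_coatom hzH, fun h => hzH.1 ?_⟩
    simpa [h] using hA.own_mem hzH
  have hsame : ∀ (q : ℕ), q.Prime → ∀ z ∈ W, ∀ z' ∈ W, PEl q z → PEl q z' → z' ≠ 1 →
      ∀ H, Own Cov H z → Own Cov H z' := by
    intro q hq z hz z' hz' hzp hz'p hz'1 H hH
    haveI := Fact.mk hq
    rcases hA.core_cases hL hz hzp with ⟨hzK, -⟩ | hzL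
    · have hown := (hA.own_iff hzp hH.1).mp hzK
      rw [hA.own_unique hH hown]
      exact hA.own_transfer hq hzp hown (hWM hz') hz'p hz'1
    rcases hA.core_cases hL hz' hz'p with ⟨hz'K, -⟩ | hz'L
    · exact absurd (hA.own_transfer hq hz'p ((hA.own_iff hz'p hz'1).mp hz'K) (hWM hz) hzp hH.1)
        (hA.compl_not_own hL hzL hzp hH.1)
    haveI := hL.nilp
    exact hA.own_of_nilpotent hzL hz'L hzp hz'p hz'1 hH
  have hcore_owner : ∀ (q : ℕ), q.Prime → ∀ z ∈ W, PEl q z → z ≠ 1 →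
      ∃ H ∈ 𝓗, Own Cov H z := by
    intro q hq z hz hzp hz1
    obtain ⟨S, -, h⟩ := exists_own (Cov := Cov) hq hzp hz1
    exact ⟨_, (hmem _).mpr ⟨q, hq, z, hz, hzp, h⟩, h⟩
  have hnorm : ∀ g : Q, (∀ x ∈ W, g * x * g⁻¹ ∈ W) → g ∈ W := by
    intro g hg
    rw [← hpair M hM𝓗 H₀ hH₀𝓗 hMH]
    have key : ∀ H ∈ 𝓗, g ∈ H := by
      intro H hH
      obtain ⟨q, hq, z, hzW, hzp, hzH⟩ := (hmem H).mp hH
      have h1 := hA.own_conj hzH g
      have h2 := hsame q hq z hzW _ (hg z hzW) hzp (hzp.conj g) h1.1 H hzH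
      exact hA.mem_of_map_eq (hcoat H hH).1 (hcoat H hH).2 (hA.own_unique h1 h2)
    exact ⟨key M hM𝓗, key H₀ hH₀𝓗⟩
  -- conjugation between kernels
  have hpure : ∀ H ∈ 𝓗, ∀ H' ∈ 𝓗, ∀ (g x : Q), x ∈ ker Cov H → x ≠ 1 →
      g * x * g⁻¹ ∈ ker Cov H' → H = H' ∧ g ∈ H := by
    intro H hH H' hH' g x hx hx1 hgx
    obtain ⟨q, hq, a, ha, hap, ha1⟩ := exists_pp (H := Subgroup.zpowers x)
      (by simpa using hx1)
    haveI := Fact.mk hq
    have h1 := hA.own_conj ((hA.own_iff hap ha1).mp (Subgroup.zpowers_le.mpr hx ha)) g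
    have h2 : g * a * g⁻¹ ∈ ker Cov H' := by
      obtain ⟨i, rfl⟩ := ha
      show g * x ^ i * g⁻¹ ∈ _
      rw [← conj_zpow]
      exact zpow_mem hgx i
    have hmap := hA.own_unique h1 ((hA.own_iff (hap.conj g) h1.1).mp h2)
    obtain ⟨r, hr, z, hzW, hzp, hzH⟩ := (hmem H).mp hH
    have h3 := hA.own_conj hzH g
    rw [hmap] at h3
    have h4 := hA.own_transfer hr (hzp.conj g) h3 (hWle H' hH' hzW) hzp hzH.1
    have e := hA.own_unique hzH h4
    refine ⟨e, hA.mem_of_map_eq (hcoat H hH).1 (hcoat H hH).2 ?_⟩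
    rw [hmap, e]
  let Mixed : Q → Prop := fun w => w ∈ W ∧ ∀ H ∈ 𝓗, w ∉ ker Cov H
  have hcomp : ∀ w, Mixed w → ∃ (q r : ℕ) (a b : Q) (A B : Subgroup Q), q.Prime ∧ r.Prime ∧
      PEl q a ∧ PEl r b ∧ a ∈ Subgroup.zpowers w ∧ b ∈ Subgroup.zpowers w ∧ A ∈ 𝓗 ∧ B ∈ 𝓗 ∧
      Own Cov A a ∧ Own Cov B b ∧ A ≠ B := by
    intro w hw
    have hz : Subgroup.zpowers w ≤ W := Subgroup.zpowers_le.mpr hw.1
    have hw1 : w ≠ 1 := fun h => hw.2 M hM𝓗 (h ▸ one_mem _)
    obtain ⟨q, hq, a, ha, hap, ha1⟩ := exists_pp (H := Subgroup.zpowers w) (by simpa using hw1)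
    obtain ⟨A, hA𝓗, hAa⟩ := hcore_owner q hq a (hz ha) hap ha1
    obtain ⟨r, hr, b, hb, hbp, hb1, hbA⟩ : ∃ r, r.Prime ∧ ∃ b ∈ Subgroup.zpowers w,
        PEl r b ∧ b ≠ 1 ∧ b ∉ ker Cov A := by
      by_contra hc
      push Not at hc
      exact hw.2 A hA𝓗 (le_of_pp (fun r hr b hb hbp hb1 => hc r hr b hb hbp hb1)
        (Subgroup.mem_zpowers w))
    obtain ⟨B, hB𝓗, hBb⟩ := hcore_owner r hr b (hz hb) hbp hb1
    haveI := Fact.mk hr
    exact ⟨q, r, a, b, A, B, hq, hr, hap, hbp, ha, hb, hA𝓗, hB𝓗, hAa, hBb,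
      fun e => hbA ((hA.own_iff hbp hb1).mpr (e ▸ hBb))⟩
  have hconj_zpowers : ∀ (g w a : Q), a ∈ Subgroup.zpowers w →
      g * a * g⁻¹ ∈ Subgroup.zpowers (g * w * g⁻¹) := by
    rintro g w a ⟨i, rfl⟩
    exact ⟨i, conj_zpow⟩
  have hmixed : ∀ w, Mixed w → ∀ (g : Q), Mixed (g * w * g⁻¹) → g ∈ W := by
    intro w hw g hw'
    obtain ⟨q, r, a, b, A, B, hq, hr, hap, hbp, ha, hb, hA𝓗, hB𝓗, hAa, hBb, hne⟩ := hcomp w hw
    have h1 := hA.own_conj hAa g
    have h2 := hA.own_conj hBb g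
    have hz : Subgroup.zpowers (g * w * g⁻¹) ≤ W := Subgroup.zpowers_le.mpr hw'.1
    have hgA : A.map (MulAut.conj g).toMonoidHom ∈ 𝓗 :=
      (hmem _).mpr ⟨q, hq, _, hz (hconj_zpowers g w a ha), hap.conj g, h1⟩
    have hgB : B.map (MulAut.conj g).toMonoidHom ∈ 𝓗 :=
      (hmem _).mpr ⟨r, hr, _, hz (hconj_zpowers g w b hb), hbp.conj g, h2⟩
    refine hnorm g fun x hx => ?_
    rw [← hpair _ hgA _ hgB (fun e => hne (Subgroup.map_injective (f := (MulAut.conj g).toMonoidHom) (MulAut.conj g).injective e))]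
    rw [← hpair A hA𝓗 B hB𝓗 hne] at hx
    exact ⟨⟨x, hx.1, rfl⟩, ⟨x, hx.2, rfl⟩⟩
  have hpm : ∀ H ∈ 𝓗, ∀ x ∈ ker Cov H, ∀ w, Mixed w → ∀ g : Q, g * w * g⁻¹ ≠ x := by
    intro H hH x hx w hw g e
    obtain ⟨q, r, a, b, A, B, hq, hr, hap, hbp, ha, hb, hA𝓗, hB𝓗, hAa, hBb, hne⟩ := hcomp w hw
    have hz : Subgroup.zpowers (g * w * g⁻¹) ≤ ker Cov H := by
      rw [e]; exact Subgroup.zpowers_le.mpr hx
    haveI := Fact.mk hq
    haveI := Fact.mk hr
    have h1 := hA.own_conj hAa g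
    have h2 := hA.own_conj hBb g
    apply hne
    apply Subgroup.map_injective (f := (MulAut.conj g).toMonoidHom) (MulAut.conj g).injective
    rw [hA.own_unique h1 ((hA.own_iff (hap.conj g) h1.1).mp (hz (hconj_zpowers g w a ha))),
      hA.own_unique h2 ((hA.own_iff (hbp.conj g) h2.1).mp (hz (hconj_zpowers g w b hb)))]
  -- the injection
  let T₁ := Σ H : (𝓗 : Finset (Subgroup Q)),
    (Q ⧸ (H : Subgroup Q)) × {x : Q // x ∈ ker Cov (H : Subgroup Q) ∧ x ≠ 1}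
  let T₂ := (Q ⧸ W) × {w : Q // Mixed w}
  let Φ : T₁ ⊕ T₂ → {x : Q // x ≠ 1} := Sum.elim
    (fun p => ⟨p.2.1.out * p.2.2.1 * p.2.1.out⁻¹, fun e => p.2.2.2.2 (conj_eq_one_iff.mp e)⟩)
    (fun p => ⟨p.1.out * p.2.1 * p.1.out⁻¹,
      fun e => p.2.2.2 M hM𝓗 ((conj_eq_one_iff.mp e) ▸ one_mem _)⟩)
  have hΦ : Function.Injective Φ := by
    rintro (⟨⟨H, hH⟩, c, ⟨x, hx⟩⟩ | ⟨c, ⟨w, hw⟩⟩) (⟨⟨H', hH'⟩, c', ⟨x', hx'⟩⟩ | ⟨c', ⟨w', hw'⟩⟩) e
    · have e' : c.out * x * c.out⁻¹ = c'.out * x' * c'.out⁻¹ := congrArg Subtype.val e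
      have h1 : (c'.out⁻¹ * c.out) * x * (c'.out⁻¹ * c.out)⁻¹ = x' := by
        rw [show (c'.out⁻¹ * c.out) * x * (c'.out⁻¹ * c.out)⁻¹ =
          c'.out⁻¹ * (c.out * x * c.out⁻¹) * c'.out by group, e']
        group
      obtain ⟨eH, hg⟩ := hpure H hH H' hH' _ x hx.1 hx.2 (h1 ▸ hx'.1)
      change H = H' at eH
      subst eH
      have hc : c' = c := by
        rw [← QuotientGroup.out_eq' c, ← QuotientGroup.out_eq' c']
        exact QuotientGroup.eq.mpr hg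
      subst hc
      have : x = x' := mul_left_cancel (mul_right_cancel e')
      subst this
      rfl
    · have e' : c.out * x * c.out⁻¹ = c'.out * w' * c'.out⁻¹ := congrArg Subtype.val e
      refine absurd ?_ (hpm H hH x hx.1 w' hw' (c.out⁻¹ * c'.out))
      rw [show (c.out⁻¹ * c'.out) * w' * (c.out⁻¹ * c'.out)⁻¹ =
        c.out⁻¹ * (c'.out * w' * c'.out⁻¹) * c.out by group, ← e']
      group
    · have e' : c.out * w * c.out⁻¹ = c'.out * x' * c'.out⁻¹ := congrArg Subtype.val e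
      refine absurd ?_ (hpm H' hH' x' hx'.1 w hw (c'.out⁻¹ * c.out))
      rw [show (c'.out⁻¹ * c.out) * w * (c'.out⁻¹ * c.out)⁻¹ =
        c'.out⁻¹ * (c.out * w * c.out⁻¹) * c'.out by group, e']
      group
    · have e' : c.out * w * c.out⁻¹ = c'.out * w' * c'.out⁻¹ := congrArg Subtype.val e
      have h1 : (c'.out⁻¹ * c.out) * w * (c'.out⁻¹ * c.out)⁻¹ = w' := by
        rw [show (c'.out⁻¹ * c.out) * w * (c'.out⁻¹ * c.out)⁻¹ =
          c'.out⁻¹ * (c.out * w * c.out⁻¹) * c'.out by group, e']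
        group
      have hg := hmixed w hw (c'.out⁻¹ * c.out) (h1 ▸ hw')
      have hc : c' = c := by
        rw [← QuotientGroup.out_eq' c, ← QuotientGroup.out_eq' c']
        exact QuotientGroup.eq.mpr hg
      subst hc
      have : w = w' := mul_left_cancel (mul_right_cancel e')
      subst this
      rfl
  -- the numbers
  haveI := Fintype.ofFinite Q
  have htot : (∑ H ∈ 𝓗, H.index * (Nat.card (ker Cov H) - 1)) +
      W.index * Nat.card {w : Q // Mixed w} + 1 ≤ Nat.card Q := by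
    have h1 := Nat.card_le_card_of_injective Φ hΦ
    have h2 : Nat.card {x : Q // x ≠ 1} + 1 = Nat.card Q := by
      have := card_sdiff_one (⊤ : Subgroup Q)
      rw [Subgroup.card_top] at this
      rw [Nat.card_congr (Equiv.subtypeEquivRight (p := fun x : Q => x ≠ 1)
        (q := fun x : Q => x ∈ (⊤ : Subgroup Q) ∧ x ≠ 1) (fun x => by simp)), this]
      have := Nat.card_pos (α := Q)
      omega
    have h3 : Nat.card (T₁ ⊕ T₂) = (∑ H ∈ 𝓗, H.index * (Nat.card (ker Cov H) - 1)) +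
        W.index * Nat.card {w : Q // Mixed w} := by
      rw [Nat.card_sum, Nat.card_sigma, Nat.card_prod, ← Subgroup.index_eq_card]
      congr 1
      rw [← Finset.sum_coe_sort 𝓗]
      exact Finset.sum_congr rfl fun H _ => by
        rw [Nat.card_prod, ← Subgroup.index_eq_card, card_sdiff_one]
    rw [h3] at h1
    omega
  have hcover : Nat.card W + 𝓗.card ≤
      Nat.card {w : Q // Mixed w} + (∑ H ∈ 𝓗, Nat.card (W ⊓ ker Cov H : Subgroup Q)) + 1 := by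
    have hsub : ((W : Set Q) \ {1}) ⊆ {w | Mixed w} ∪
        ⋃ H ∈ 𝓗, (((W ⊓ ker Cov H : Subgroup Q) : Set Q) \ {1}) := by
      rintro w ⟨hw, hw1⟩
      by_cases hm : ∀ H ∈ 𝓗, w ∉ ker Cov H
      · exact Or.inl ⟨hw, hm⟩
      · push Not at hm
        obtain ⟨H, hH, hwH⟩ := hm
        exact Or.inr (Set.mem_biUnion hH ⟨⟨hw, hwH⟩, hw1⟩)
    have h1 := (Set.ncard_le_ncard hsub (Set.toFinite _)).trans (Set.ncard_union_le _ _)
    rw [Set.ncard_sdiff_singleton_of_mem W.one_mem] at h1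
    have h2 := Finset.set_ncard_biUnion_le 𝓗
      (fun H => (((W ⊓ ker Cov H : Subgroup Q) : Set Q) \ {1}))
    have h3 : (∑ H ∈ 𝓗, (((W ⊓ ker Cov H : Subgroup Q) : Set Q) \ {1}).ncard) + 𝓗.card =
        ∑ H ∈ 𝓗, Nat.card (W ⊓ ker Cov H : Subgroup Q) := by
      rw [Finset.card_eq_sum_ones, ← Finset.sum_add_distrib]
      refine Finset.sum_congr rfl fun H _ => ?_
      rw [Set.ncard_sdiff_singleton_of_mem (one_mem _), ← Nat.card_coe_set_eq]
      have := Nat.card_pos (α := (W ⊓ ker Cov H : Subgroup Q))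
      simp only [SetLike.coe_sort_coe]
      omega
    rw [← Nat.card_coe_set_eq ((W : Set Q)), ← Nat.card_coe_set_eq {w | Mixed w}] at h1
    change Nat.card W - 1 ≤ Nat.card {w : Q // Mixed w} + _ at h1
    omega
  have hH : ∀ H ∈ 𝓗, 2 * Nat.card Q * Nat.card (W ⊓ ker Cov H : Subgroup Q) ≤
      2 * Nat.card W * (H.index * (Nat.card (ker Cov H) - 1)) + Nat.card Q := by
    intro H hH
    obtain ⟨L', hL', e⟩ := hdec H hH
    have hc := hA.card_core hL'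
    rw [e] at hc
    have hlt : W ⊓ ker Cov H ≠ ker Cov H := by
      intro he
      obtain ⟨q, hq, z, hzW, hzp, hzH⟩ := (hmem H).mp hH
      obtain ⟨hz1, r, hr, S, hzS, hms⟩ := hzH
      haveI := Fact.mk hr
      have hS := sylow_ne_bot hzS hz1
      obtain ⟨c, hcS, hcov, hc1, -⟩ := hA.exists_central S hS
      have hcW : c ∈ W := (he.symm.le (hms ▸ hA.sylow_le_ker S hS hcS)).1
      obtain ⟨H', hH', hne⟩ : ∃ H' ∈ 𝓗, H' ≠ H := by
        by_cases e : H = M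
        · exact ⟨H₀, hH₀𝓗, e ▸ hMH.symm⟩
        · exact ⟨M, hM𝓗, Ne.symm e⟩
      exact hne (hA.cov_eq (hcoat H' hH').1 (hcoat H hH).1 (hWle H' hH' hcW) (hWle H hH hcW) hcov
        hc1)
    obtain ⟨d, hd⟩ := Subgroup.card_dvd_of_le (inf_le_right : W ⊓ ker Cov H ≤ ker Cov H)
    set a := Nat.card (W ⊓ ker Cov H : Subgroup Q)
    set K := Nat.card (ker Cov H) with hK
    have hd2 : 2 ≤ d := by
      rcases d with _ | _ | d
      · rw [mul_zero] at hd; exact absurd hd Nat.card_pos.ne'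
      · exact absurd (Subgroup.eq_of_le_of_card_ge inf_le_right (by
          rw [← hK, hd, Nat.zero_add, mul_one])) hlt
      · omega
    have hi : H.index * Nat.card H = Nat.card Q := H.index_mul_card
    have e1 : H.index * Nat.card W * K = Nat.card Q * a := by
      rw [mul_assoc, hc, ← hi]; ring
    have e2 : H.index * Nat.card W * d = Nat.card Q := by
      have ha : 0 < a := Nat.card_pos
      have : H.index * Nat.card W * d * a = Nat.card Q * a := by rw [← e1, hd]; ring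
      exact Nat.eq_of_mul_eq_mul_right ha this
    have hKpos : 1 ≤ K := Nat.card_pos
    have e3 : H.index * Nat.card W * 2 ≤ Nat.card Q := e2 ▸ Nat.mul_le_mul_left _ hd2
    have e4 : 2 * Nat.card W * (H.index * (K - 1)) + H.index * Nat.card W * 2 =
        2 * (H.index * Nat.card W * K) := by
      obtain ⟨j, hj⟩ : ∃ j, K = j + 1 := ⟨K - 1, by omega⟩
      rw [hj, Nat.add_sub_cancel]; ring
    rw [e1] at e4
    rw [mul_assoc]
    omega
  have hsum := Finset.sum_le_sum hH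
  rw [Finset.sum_add_distrib, Finset.sum_const, smul_eq_mul, ← Finset.mul_sum,
    ← Finset.mul_sum] at hsum
  have hn : 2 ≤ 𝓗.card := Finset.one_lt_card.mpr ⟨M, hM𝓗, H₀, hH₀𝓗, hMH⟩
  have hiW := W.index_mul_card
  have hWpos : 0 < Nat.card W := Nat.card_pos
  nlinarith [Nat.mul_le_mul_left (2 * Nat.card W) htot, Nat.mul_le_mul_left (2 * Nat.card Q) hcover,
    Nat.mul_le_mul_left (Nat.card Q) hn]

end CfsgLib.GammaCrit
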