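import Cfsg.Agent.Lib.Solvable.GammaCriterion.Local

/-!
The maximal subgroups of the covering: kernels, complements, and their intersections.
-/

set_option autoImplicit false
open scoped commutatorElement
open CfsgLib.Solvable.Cores

namespace CfsgLib.GammaCrit

variable {Q : Type*} [Group Q] {k : ℕ} {Cov : ℕ → Q → Prop}

/-- The normal Sylow subgroups owned by `M`. -/
def owned (Cov : ℕ → Q → Prop) (M : Subgroup Q) : Set (Subgroup M) :=
  {N | ∃ q, q.Prime ∧ ∃ S : Sylow q Q, (S : Subgroup Q) ≠ ⊥ ∧ ms Cov q S = M ∧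
    N = (S : Subgroup Q).subgroupOf M}

/-- The product of the Sylow subgroups owned by `M`. -/
def ker (Cov : ℕ → Q → Prop) (M : Subgroup Q) : Subgroup Q :=
  (sSup (owned Cov M)).map M.subtype

/-- `M` is attached to some Sylow subgroup. -/
def IsT (Cov : ℕ → Q → Prop) (M : Subgroup Q) : Prop :=
  ∃ q, q.Prime ∧ ∃ S : Sylow q Q, (S : Subgroup Q) ≠ ⊥ ∧ ms Cov q S = M

/-- `L` is a nilpotent complement of the kernel of `M`. -/
structure Compl (Cov : ℕ → Q → Prop) (M L : Subgroup Q) : Prop where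
  le : L ≤ M
  disj : ∀ x ∈ ker Cov M, x ∈ L → x = 1
  cover : ∀ m ∈ M, ∃ c ∈ ker Cov M, ∃ l ∈ L, m = c * l
  card : Nat.card (ker Cov M) * Nat.card L = Nat.card M
  nilp : Group.IsNilpotent L

theorem ker_le (M : Subgroup Q) : ker Cov M ≤ M := Subgroup.map_subtype_le _

variable [Finite Q]

theorem isT_of_own {M : Subgroup Q} {t : Q} (h : Own Cov M t) : IsT Cov M := by
  obtain ⟨ht1, q, hq, S, htS, hms⟩ := h
  exact ⟨q, hq, S, sylow_ne_bot htS ht1, hms⟩

theorem Ax.owned_normal (hA : Ax Q k Cov) (M : Subgroup Q) :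
    ∀ N ∈ owned Cov M, N.Normal := by
  rintro N ⟨q, hq, S, hS, rfl, rfl⟩
  haveI := Fact.mk hq
  exact (Subgroup.normal_subgroupOf_iff_le_normalizer (hA.sylow_le_ms S hS)).mpr (hA.ms_eq S hS).le

theorem Ax.sSup_owned_normal (hA : Ax Q k Cov) (M : Subgroup Q) : (sSup (owned Cov M)).Normal :=
  Subgroup.sSup_normal _ (hA.owned_normal M)

theorem Ax.isT_coatom (hA : Ax Q k Cov) {M : Subgroup Q} (h : IsT Cov M) : IsCoatom M := by
  obtain ⟨q, hq, S, hS, rfl⟩ := h
  haveI := Fact.mk hq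
  exact (hA.ms_coatom S hS).1

theorem Ax.conj_mem_ker (hA : Ax Q k Cov) {M : Subgroup Q} {g x : Q} (hg : g ∈ M)
    (hx : x ∈ ker Cov M) : g * x * g⁻¹ ∈ ker Cov M := by
  obtain ⟨y, hy, rfl⟩ := hx
  exact ⟨⟨g, hg⟩ * y * ⟨g, hg⟩⁻¹, (hA.sSup_owned_normal M).conj_mem y hy _, rfl⟩

theorem Ax.own_iff (hA : Ax Q k Cov) {M : Subgroup Q} {q : ℕ} [hq : Fact q.Prime] {t : Q}
    (ht : PEl q t) (ht1 : t ≠ 1) : t ∈ ker Cov M ↔ Own Cov M t := by
  constructor
  · intro htk
    by_cases hex : ∃ S : Sylow q Q, (S : Subgroup Q) ≠ ⊥ ∧ ms Cov q S = M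
    · obtain ⟨S, hS, rfl⟩ := hex
      exact hA.own_of_ms S hS ht ht1 (ker_le _ htk)
    · exfalso
      obtain ⟨y, hy, rfl⟩ := htk
      have hcop := coprime_card_sSup q _ (hA.owned_normal M) ?_
      · obtain ⟨a, ha⟩ := ht.orderOf hq.out
        have h2 := (sSup (owned Cov M)).orderOf_dvd_natCard hy
        rw [← Subgroup.orderOf_coe, show orderOf (y : Q) = q ^ a from ha] at h2
        rcases Nat.eq_zero_or_pos a with rfl | ha0
        · exact ht1 (orderOf_eq_one_iff.mp (ha.trans (pow_zero q)))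
        · exact hq.out.coprime_iff_not_dvd.mp hcop.symm ((dvd_pow_self q ha0.ne').trans h2)
      rintro N ⟨r, hr, S, hS, hms, rfl⟩
      haveI := Fact.mk hr
      have hne : r ≠ q := fun e => hex (by subst e; exact ⟨S, hS, hms⟩)
      obtain ⟨b, hb⟩ := IsPGroup.iff_card.mp (S.2.comap_subtype (K := M))
      rw [show Nat.card ((S : Subgroup Q).subgroupOf M) = r ^ b from hb]
      exact ((Nat.coprime_primes hr hq.out).mpr hne).pow_left b
  · rintro ⟨-, r, hr, S, htS, rfl⟩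
    haveI := Fact.mk hr
    have hS := sylow_ne_bot htS ht1
    have hm := hA.sylow_le_ms S hS htS
    exact ⟨⟨t, hm⟩, le_sSup (show (S : Subgroup Q).subgroupOf (ms Cov r S) ∈ owned Cov _ from
      ⟨r, hr, S, hS, rfl, rfl⟩) htS, rfl⟩

theorem Ax.sylow_le_ker (hA : Ax Q k Cov) {q : ℕ} [hq : Fact q.Prime] (S : Sylow q Q)
    (hS : (S : Subgroup Q) ≠ ⊥) : (S : Subgroup Q) ≤ ker Cov (ms Cov q S) := by
  intro x hx
  by_cases hx1 : x = 1
  · rw [hx1]; exact one_mem _
  exact (hA.own_iff (pel_of_mem S.2 hx) hx1).mpr ⟨hx1, q, hq.out, S, hx, rfl⟩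

theorem Ax.hall (hA : Ax Q k Cov) (M : Subgroup Q) :
    (Nat.card (sSup (owned Cov M) : Subgroup M)).Coprime (sSup (owned Cov M)).index := by
  by_contra hn
  obtain ⟨q, hq, h1, h2⟩ := Nat.Prime.not_coprime_iff_dvd.mp hn
  haveI := Fact.mk hq
  obtain ⟨y, hy⟩ := exists_prime_orderOf_dvd_card' q h1
  set t : Q := ((y : M) : Q) with ht
  have hto : orderOf t = q := by rw [ht, Subgroup.orderOf_coe, Subgroup.orderOf_coe]; exact hy
  have ht1 : t ≠ 1 := fun h => hq.ne_one (by rw [← hto, h, orderOf_one])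
  have htp : PEl q t := ⟨1, by rw [pow_one, ← hto, pow_orderOf_eq_one]⟩
  obtain ⟨-, r, hr, S, htS, hms⟩ := (hA.own_iff htp ht1).mp ⟨(y : M), y.2, rfl⟩
  obtain rfl : q = r := by
    by_contra hne
    exact ht1 (eq_one_of_pel hq hr hne htp (pel_of_mem S.2 htS))
  have hS := sylow_ne_bot htS ht1
  have hSM : (S : Subgroup Q) ≤ M := hms ▸ hA.sylow_le_ms S hS
  refine (S.subtype hSM).not_dvd_index (h2.trans (Subgroup.index_dvd_of_le ?_))
  rw [Sylow.coe_subtype]
  exact le_sSup ⟨q, hq, S, hS, hms, rfl⟩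

theorem Ax.lcs_le_owned (hA : Ax Q k Cov) {M : Subgroup Q} (hM : IsT Cov M) :
    (⊤ : Subgroup M).lowerCentralSeries k ≤ sSup (owned Cov M) := by
  have hne : M ≠ ⊤ := (hA.isT_coatom hM).1
  haveI := hA.nil M hne
  refine (le_iSup_pCore _ inferInstance).trans (iSup_le fun l y hy => ?_)
  haveI := Fact.mk l.2
  by_cases hy1 : (y : Q) = 1
  · rw [show y = 1 from Subtype.ext hy1]; exact one_mem _
  have hyp : PEl (l : ℕ) (y : Q) := (pel_of_mem (isPGroup_pCore _) hy).map M.subtype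
  suffices h : Own Cov M (y : Q) by
    obtain ⟨z, hz, hze⟩ := (hA.own_iff hyp hy1).mpr h
    rwa [← Subtype.ext hze]
  obtain ⟨r, hr, S, hS, hms⟩ := hM
  haveI := Fact.mk hr
  subst hms
  by_cases hlr : r = (l : ℕ)
  · subst hlr
    exact hA.own_of_ms S hS hyp hy1 y.2
  · haveI hn : ((S : Subgroup Q).subgroupOf (ms Cov r S)).Normal :=
      (Subgroup.normal_subgroupOf_iff_le_normalizer (hA.sylow_le_ms S hS)).mpr (hA.ms_eq S hS).le
    have hdis : Disjoint ((S : Subgroup Q).subgroupOf (ms Cov r S))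
        (Cfsg.pCore (l : ℕ) (ms Cov r (S : Subgroup Q))) := by
      rw [disjoint_iff, eq_bot_iff]
      rintro x ⟨hx1, hx2⟩
      exact eq_one_of_pel hr l.2 hlr (pel_of_mem (S.2.comap_subtype) hx1)
        (pel_of_mem (isPGroup_pCore _) hx2)
    obtain ⟨c, hcS, hc, hc1, -⟩ := hA.exists_central S hS
    have hcm := hA.sylow_le_ms S hS hcS
    have hcom : Commute (⟨c, hcm⟩ : ms Cov r (S : Subgroup Q)) y :=
      Subgroup.commute_of_normal_of_disjoint _ _ hn inferInstance hdis _ _ hcS hy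
    obtain ⟨H, -, hH⟩ := exists_own (Cov := Cov) l.2 hyp hy1
    have hcH := hA.own_centralizer hH ((congrArg Subtype.val hcom.eq.symm : (y : Q) * c = c * y))
    rwa [hA.cov_eq (hA.own_coatom hH) (hA.ms_coatom S hS).1 hcH hcm hc hc1] at hH

/-- A nilpotent complement to the kernel containing a given element of suitable order. -/
theorem Ax.exists_compl (hA : Ax Q k Cov) {M : Subgroup Q} (hM : IsT Cov M) :
    ∃ L : Subgroup Q, Compl Cov M L ∧
      ∀ q, q.Prime → ∀ t ∈ M, PEl q t → t ≠ 1 → ¬ Own Cov M t →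
        ∃ L' : Subgroup Q, Compl Cov M L' ∧ t ∈ L' := by
  set B := sSup (owned Cov M) with hB
  haveI hBn : B.Normal := hA.sSup_owned_normal M
  obtain ⟨L₀, hL₀⟩ := Subgroup.exists_right_complement'_of_coprime (hA.hall M)
  haveI : Group.IsNilpotent (M ⧸ B) := nilpotent_quotient_of_lcs_le B (hA.lcs_le_owned hM)
  have mk : ∀ L₁ : Subgroup M, B.IsComplement' L₁ → Compl Cov M (L₁.map M.subtype) := by
    intro L₁ h
    refine ⟨Subgroup.map_subtype_le _, ?_, ?_, ?_, ?_⟩
    · rintro _ ⟨a, ha, rfl⟩ ⟨b, hb, hbe⟩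
      rw [M.subtype_injective hbe] at hb
      rw [Subgroup.disjoint_def.mp h.disjoint ha hb]; rfl
    · intro m hm
      have : (⟨m, hm⟩ : M) ∈ B ⊔ L₁ := by rw [h.sup_eq_top]; trivial
      obtain ⟨a, ha, b, hb, hab⟩ := Subgroup.mem_sup_of_normal_left.mp this
      exact ⟨a, ⟨a, ha, rfl⟩, b, ⟨b, hb, rfl⟩, (congrArg Subtype.val hab).symm⟩
    · rw [ker, Subgroup.card_map_of_injective M.subtype_injective,
        Subgroup.card_map_of_injective M.subtype_injective]
      exact h.card_mul_card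
    · let f : L₁ →* M ⧸ B := (QuotientGroup.mk' B).comp L₁.subtype
      have hf : Function.Injective f := by
        rw [← MonoidHom.ker_eq_bot_iff, eq_bot_iff]
        intro x hx
        exact Subgroup.mem_bot.mpr (Subtype.ext (Subgroup.disjoint_def.mp h.disjoint
          ((QuotientGroup.eq_one_iff _).mp hx) x.2))
      haveI : Group.IsNilpotent L₁ := Group.nilpotent_of_mulEquiv (MonoidHom.ofInjective hf).symm
      exact Group.nilpotent_of_mulEquiv (L₁.equivMapOfInjective M.subtype M.subtype_injective)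
  refine ⟨_, mk L₀ hL₀, fun q hq t htM ht ht1 hno => ?_⟩
  haveI := Fact.mk hq
  have hqB : ¬ q ∣ Nat.card B := by
    intro hd
    obtain ⟨y, hy⟩ := exists_prime_orderOf_dvd_card' q hd
    set u : Q := ((y : M) : Q)
    have huo : orderOf u = q := by
      rw [Subgroup.orderOf_coe, Subgroup.orderOf_coe]; exact hy
    have hu1 : u ≠ 1 := fun h => hq.ne_one (by rw [← huo, h, orderOf_one])
    have hup : PEl q u := ⟨1, by rw [pow_one, ← huo, pow_orderOf_eq_one]⟩
    obtain ⟨-, r, hr, S, huS, hms⟩ := (hA.own_iff hup hu1).mp ⟨(y : M), y.2, rfl⟩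
    obtain rfl : q = r := by
      by_contra hne
      exact hu1 (eq_one_of_pel hq hr hne hup (pel_of_mem S.2 huS))
    subst hms
    exact hno (hA.own_of_ms S (sylow_ne_bot huS hu1) ht ht1 htM)
  obtain ⟨R⟩ : Nonempty (Sylow q L₀) := inferInstance
  have hidx : ¬ q ∣ ((R : Subgroup L₀).map L₀.subtype).index := by
    rw [Subgroup.index_map_subtype, hL₀.index_eq_card]
    exact fun hd => (hq.dvd_mul.mp hd).elim R.not_dvd_index hqB
  let R₁ : Sylow q M := (R.2.map L₀.subtype).toSylow hidx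
  have htp : IsPGroup q (Subgroup.zpowers (⟨t, htM⟩ : M)) := by
    refine PEl.isPGroup_zpowers ?_
    obtain ⟨a, ha⟩ := ht
    exact ⟨a, Subtype.ext ha⟩
  obtain ⟨P, hP⟩ := htp.exists_le_sylow
  obtain ⟨g, hg⟩ := MulAction.exists_smul_eq M R₁ P
  refine ⟨_, mk (L₀.map (MulAut.conj g).toMonoidHom) ?_, ?_⟩
  · have hc : Nat.card (L₀.map (MulAut.conj g).toMonoidHom) = Nat.card L₀ :=
      Subgroup.card_map_of_injective (MulAut.conj g).injective
    refine Subgroup.isComplement'_of_coprime ?_ ?_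
    · rw [hc]; exact hL₀.card_mul_card
    · rw [hc, ← hL₀.symm.index_eq_card]; exact hA.hall M
  · refine ⟨⟨t, htM⟩, ?_, rfl⟩
    have h1 : (⟨t, htM⟩ : M) ∈ ((g • R₁ : Sylow q M) : Subgroup M) := by
      rw [hg]; exact hP (Subgroup.mem_zpowers _)
    obtain ⟨a, ⟨b, -, rfl⟩, hae⟩ := h1
    exact ⟨b, b.2, hae⟩

theorem Ax.compl_not_own (hA : Ax Q k Cov) {M L : Subgroup Q} (hL : Compl Cov M L) {q : ℕ}
    [Fact q.Prime] {x : Q} (hx : x ∈ L) (hxp : PEl q x) (hx1 : x ≠ 1) : ¬ Own Cov M x := fun h =>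
  hx1 (hL.disj x ((hA.own_iff hxp hx1).mpr h) hx)

theorem Ax.coprime_compl (hA : Ax Q k Cov) {M L : Subgroup Q} (hL : Compl Cov M L) :
    (Nat.card (ker Cov M)).Coprime (Nat.card L) := by
  have h1 : Nat.card (ker Cov M) = Nat.card (sSup (owned Cov M) : Subgroup M) :=
    Subgroup.card_map_of_injective M.subtype_injective
  have h2 := (sSup (owned Cov M)).card_mul_index
  rw [← h1, ← hL.card] at h2
  have h3 : (sSup (owned Cov M)).index = Nat.card L :=
    Nat.eq_of_mul_eq_mul_left Nat.card_pos h2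
  rw [h1, ← h3]
  exact hA.hall M

/-- The common part attached to a complement. -/
def core (Cov : ℕ → Q → Prop) (M L : Subgroup Q) : Subgroup Q :=
  (ker Cov M ⊓ Subgroup.centralizer (L : Set Q)) ⊔ L

theorem mem_core {M L : Subgroup Q} {x : Q} :
    x ∈ core Cov M L ↔ ∃ c ∈ ker Cov M, ∃ l ∈ L, (∀ l' ∈ L, Commute c l') ∧ x = c * l := by
  constructor
  · intro hx
    refine Subgroup.closure_induction (p := fun x _ => ∃ c ∈ ker Cov M, ∃ l ∈ L,
      (∀ l' ∈ L, Commute c l') ∧ x = c * l) ?_ ?_ ?_ ?_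
      (show x ∈ Subgroup.closure (((ker Cov M ⊓ Subgroup.centralizer (L : Set Q) : Subgroup Q) :
        Set Q) ∪ L) by
        rw [Subgroup.closure_union, Subgroup.closure_eq, Subgroup.closure_eq]; exact hx)
    · rintro y (⟨hy1, hy2⟩ | hy)
      · exact ⟨y, hy1, 1, one_mem _, fun l hl => (Subgroup.mem_centralizer_iff.mp hy2 l hl).symm,
          (mul_one y).symm⟩
      · exact ⟨1, one_mem _, y, hy, fun _ _ => Commute.one_left _, (one_mul y).symm⟩
    · exact ⟨1, one_mem _, 1, one_mem _, fun _ _ => Commute.one_left _, (one_mul 1).symm⟩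
    · rintro _ _ _ _ ⟨c, hc, l, hl, hcl, rfl⟩ ⟨d, hd, m, hm, hdm, rfl⟩
      refine ⟨c * d, mul_mem hc hd, l * m, mul_mem hl hm,
        fun l' hl' => (hcl l' hl').mul_left (hdm l' hl'), ?_⟩
      rw [mul_assoc c l, ← mul_assoc l d, ← (hdm l hl).eq]
      simp only [mul_assoc]
    · rintro _ _ ⟨c, hc, l, hl, hcl, rfl⟩
      refine ⟨c⁻¹, inv_mem hc, l⁻¹, inv_mem hl, fun l' hl' => (hcl l' hl').inv_left, ?_⟩
      rw [(hcl l hl).eq, mul_inv_rev]
  · rintro ⟨c, hc, l, hl, hcl, rfl⟩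
    exact Subgroup.mul_mem_sup
      ⟨hc, Subgroup.mem_centralizer_iff.mpr fun l' hl' => (hcl l' hl').eq.symm⟩ hl

theorem Ax.core_cases (hA : Ax Q k Cov) {M L : Subgroup Q} (hL : Compl Cov M L) {q : ℕ}
    [hq : Fact q.Prime] {x : Q} (hx : x ∈ core Cov M L) (hxp : PEl q x) :
    (x ∈ ker Cov M ∧ ∀ l ∈ L, Commute x l) ∨ x ∈ L := by
  obtain ⟨c, hc, l, hl, hcl, rfl⟩ := mem_core.mp hx
  obtain ⟨a, ha⟩ := hxp
  rw [(hcl l hl).mul_pow] at ha
  have h1 : c ^ q ^ a = 1 := by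
    refine hL.disj _ (pow_mem hc _) ?_
    rw [eq_inv_of_mul_eq_one_left ha]; exact inv_mem (pow_mem hl _)
  rw [h1, one_mul] at ha
  by_cases hc1 : c = 1
  · right; rw [hc1, one_mul]; exact hl
  left
  have hl1 : l = 1 := by
    rw [← orderOf_eq_one_iff]
    obtain ⟨b, hb⟩ := PEl.orderOf hq.out (show PEl q c from ⟨a, h1⟩)
    have hb0 : b ≠ 0 := fun h => hc1 (orderOf_eq_one_iff.mp (by rw [hb, h, pow_zero]))
    have hqK : q ∣ Nat.card (ker Cov M) :=
      (dvd_pow_self q hb0).trans (hb ▸ (ker Cov M).orderOf_dvd_natCard hc)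
    exact Nat.eq_one_of_dvd_coprimes
      (((hA.coprime_compl hL).coprime_dvd_left hqK).pow_left a)
      (orderOf_dvd_of_pow_eq_one ha) (L.orderOf_dvd_natCard hl)
  rw [hl1, mul_one]
  exact ⟨hc, hcl⟩

theorem Ax.core_inf_ker (hA : Ax Q k Cov) {M L : Subgroup Q} (hL : Compl Cov M L) :
    core Cov M L ⊓ ker Cov M = ker Cov M ⊓ Subgroup.centralizer (L : Set Q) := by
  refine le_antisymm (fun x hx => ?_) (le_inf le_sup_left inf_le_left)
  obtain ⟨c, hc, l, hl, hcl, rfl⟩ := mem_core.mp hx.1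
  have : l = 1 := hL.disj l (by
    have := mul_mem (inv_mem hc) hx.2
    rwa [inv_mul_cancel_left] at this) hl
  rw [this, mul_one]
  exact ⟨hc, Subgroup.mem_centralizer_iff.mpr fun l' hl' => (hcl l' hl').eq.symm⟩

theorem Ax.card_core (hA : Ax Q k Cov) {M L : Subgroup Q} (hL : Compl Cov M L) :
    Nat.card (core Cov M L) * Nat.card (ker Cov M) =
      Nat.card (core Cov M L ⊓ ker Cov M : Subgroup Q) * Nat.card M := by
  rw [hA.core_inf_ker hL, ← hL.card]
  set C := ker Cov M ⊓ Subgroup.centralizer (L : Set Q) with hC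
  have : Nat.card (C × L) = Nat.card (core Cov M L) := by
    refine Nat.card_congr (Equiv.ofBijective
      (fun p => (⟨p.1 * p.2, Subgroup.mul_mem_sup p.1.2 p.2.2⟩ : core Cov M L)) ⟨?_, ?_⟩)
    · rintro ⟨c, l⟩ ⟨d, m⟩ e
      have e' : (c : Q) * l = d * m := congrArg Subtype.val e
      have h1 : ((d : Q)⁻¹ * c) = m * (l : Q)⁻¹ := by
        rw [inv_mul_eq_iff_eq_mul, ← mul_assoc, ← e', mul_inv_cancel_right]
      have h2 : (d : Q)⁻¹ * c = 1 := hL.disj _ (mul_mem (inv_mem d.2.1) c.2.1)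
        (h1 ▸ mul_mem m.2 (inv_mem l.2))
      rw [h2] at h1
      exact Prod.ext (Subtype.ext (inv_mul_eq_one.mp h2).symm)
        (Subtype.ext (mul_inv_eq_one.mp h1.symm).symm)
    · rintro ⟨x, hx⟩
      obtain ⟨c, hc, l, hl, hcl, rfl⟩ := mem_core.mp hx
      exact ⟨(⟨c, hc, Subgroup.mem_centralizer_iff.mpr fun l' hl' => (hcl l' hl').eq.symm⟩,
        ⟨l, hl⟩), rfl⟩
  rw [← this, Nat.card_prod]; ring

/-- Two elements of a nilpotent complement of the same prime power type have the same owner. -/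
theorem Ax.own_of_nilpotent (hA : Ax Q k Cov) {L : Subgroup Q} [Group.IsNilpotent L] {q : ℕ}
    [hq : Fact q.Prime] {H : Subgroup Q} {z z' : Q} (hz : z ∈ L) (hz' : z' ∈ L) (hzp : PEl q z)
    (hz'p : PEl q z') (hz'1 : z' ≠ 1) (h : Own Cov H z) : Own Cov H z' := by
  obtain ⟨R⟩ : Nonempty (Sylow q L) := inferInstance
  have hR : IsPGroup q ((R : Subgroup L).map L.subtype) := R.2.map _
  have hmem : ∀ x (hx : x ∈ L), PEl q x → x ∈ (R : Subgroup L).map L.subtype := by
    intro x hx hxp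
    have h1 : IsPGroup q (Subgroup.zpowers (⟨x, hx⟩ : L)) := by
      refine PEl.isPGroup_zpowers ?_
      obtain ⟨a, ha⟩ := hxp; exact ⟨a, Subtype.ext ha⟩
    obtain ⟨R', hR'⟩ := h1.exists_le_sylow
    haveI : Subsingleton (Sylow q L) := by
      haveI := Sylow.unique_of_normal R inferInstance; infer_instance
    rw [Subsingleton.elim R R']
    exact ⟨_, hR' (Subgroup.mem_zpowers _), rfl⟩
  obtain ⟨S, hS⟩ := hR.exists_le_sylow
  rw [hA.own_unique h ⟨h.1, q, hq.out, S, hS (hmem z hz hzp), rfl⟩]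
  exact ⟨hz'1, q, hq.out, S, hS (hmem z' hz' hz'p), rfl⟩

/-- The owner of an element of a complement meets the maximal subgroup in the core. -/
theorem Ax.inter_eq (hA : Ax Q k Cov) {M L : Subgroup Q} (hM : IsT Cov M) (hL : Compl Cov M L)
    {q : ℕ} [hq : Fact q.Prime] {z : Q} (hz : z ∈ L) (hzp : PEl q z) {H : Subgroup Q}
    (hH : Own Cov H z) : M ⊓ H = core Cov M L := by
  haveI := hL.nilp
  have hLH : L ≤ H := by
    refine le_of_pp fun r hr l hl hlp hl1 => ?_
    haveI := Fact.mk hr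
    by_cases hrq : r = q
    · subst hrq
      exact hA.own_mem (hA.own_of_nilpotent hz hl hzp hlp hl1 hH)
    · refine hA.own_centralizer hH ?_
      have hc : Commute (⟨z, hz⟩ : L) ⟨l, hl⟩ := by
        refine CfsgLib.OddOrder.Basic.commute_of_coprime_orderOf ?_
        rw [← Subgroup.orderOf_coe, ← Subgroup.orderOf_coe]
        obtain ⟨a, ha⟩ := hzp.orderOf hq.out
        obtain ⟨b, hb⟩ := hlp.orderOf hr
        show (orderOf z).Coprime (orderOf l)
        rw [ha, hb]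
        exact ((Nat.coprime_primes hq.out hr).mpr (fun e => hrq e.symm)).pow a b
      exact congrArg Subtype.val hc.eq
  have hMH : M ≠ H := fun e => hA.compl_not_own hL hz hzp hH.1 (e ▸ hH)
  have hcent : ker Cov M ⊓ H ≤ Subgroup.centralizer (L : Set Q) := by
    refine le_of_pp fun r hr x hx hxp hx1 => ?_
    haveI := Fact.mk hr
    obtain ⟨-, r', hr', S, hxS, hms⟩ := (hA.own_iff hxp hx1).mp hx.1
    obtain rfl : r = r' := by
      by_contra hne
      exact hx1 (eq_one_of_pel hr hr' hne hxp (pel_of_mem S.2 hxS))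
    have hS := sylow_ne_bot hxS hx1
    rw [Subgroup.mem_centralizer_iff]
    suffices L ≤ Subgroup.centralizer ({x} : Set Q) from fun l hl =>
      Subgroup.mem_centralizer_singleton_iff.mp (this hl)
    refine le_of_pp fun s hs l hl hlp hl1 => ?_
    haveI := Fact.mk hs
    have hlS : l ∈ Subgroup.normalizer ((S : Subgroup Q) : Set Q) := by
      rw [← hA.ms_eq S hS, hms]; exact hL.le hl
    have hlH := hLH hl
    have hn : l ∈ Subgroup.normalizer (((S : Subgroup Q) ⊓ H : Subgroup Q) : Set Q) := by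
      refine Subgroup.mem_normalizer_iff.mpr fun y => ⟨fun hy =>
        ⟨(Subgroup.mem_normalizer_iff.mp hlS y).mp hy.1, H.mul_mem (H.mul_mem hlH hy.2) (H.inv_mem hlH)⟩,
        fun hy => ⟨(Subgroup.mem_normalizer_iff.mp hlS y).mpr hy.1, ?_⟩⟩
      have := H.mul_mem (H.mul_mem (H.inv_mem hlH) hy.2) hlH
      rwa [show l⁻¹ * (l * y * l⁻¹) * l = y by group] at this
    have hne : s ≠ r := by
      rintro rfl
      exact hA.compl_not_own hL hl hlp hl1 (hms ▸ hA.own_of_ms S hS hlp hl1 (hms ▸ hL.le hl))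
    rw [Subgroup.mem_centralizer_singleton_iff]
    refine (Commute.eq ?_).symm
    refine commute_of_itc hn (fun a ha => ?_) k (show x ∈ (S : Subgroup Q) ⊓ H from ⟨hxS, hx.2⟩) ?_
    · obtain ⟨i, hi⟩ := hlp.orderOf hs
      obtain ⟨j, hj⟩ := (pel_of_mem S.2 ha.1).orderOf hr
      rw [hi, hj]
      exact ((Nat.coprime_primes hs hr).mpr hne).pow i j
    · by_contra hc1
      have hm := itc_mem hn k (show x ∈ (S : Subgroup Q) ⊓ H from ⟨hxS, hx.2⟩)
      exact hMH (hA.cov_eq (hA.isT_coatom hM) (hA.own_coatom hH)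
        (hms ▸ hA.sylow_le_ms S hS hm.1) hm.2
        (hA.iter r hr _ (S.2.to_le inf_le_left) l hn x ⟨hxS, hx.2⟩) hc1)
  refine le_antisymm (fun m hm => ?_) (sup_le (le_inf (inf_le_left.trans (ker_le M)) fun c hc => ?_)
    (le_inf hL.le hLH))
  · obtain ⟨c, hc, l, hl, rfl⟩ := hL.cover m hm.1
    have hcH : c ∈ H := by
      have := H.mul_mem hm.2 (H.inv_mem (hLH hl))
      rwa [mul_inv_cancel_right] at this
    exact Subgroup.mul_mem_sup ⟨hc, hcent ⟨hc, hcH⟩⟩ hl
  · exact hA.own_centralizer hH (Subgroup.mem_centralizer_iff.mp hc.2 z hz)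

end CfsgLib.GammaCrit
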