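import Cfsg.Agent.Lib.Solvable.GammaCriterion.Solvable
import Cfsg.Agent.Lib.Solvable.FrattiniFitting
import Mathlib.GroupTheory.Focal

/-!
Local theory of a simple group with a covering family of elements of prime power order.
-/

set_option autoImplicit false
open scoped commutatorElement
open CfsgLib.Solvable.Cores

namespace CfsgLib.GammaCrit

variable {Q : Type*} [Group Q]

/-- The properties of the family of covered elements. -/
structure Ax (Q : Type*) [Group Q] (k : ℕ) (Cov : ℕ → Q → Prop) : Prop where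
  simple : IsSimpleGroup Q
  ns : ¬ Group.IsSolvable Q
  pel : ∀ q c, Cov q c → PEl q c
  conj : ∀ q c (g : Q), Cov q c → Cov q (g * c * g⁻¹)
  comm : ∀ q, q.Prime → ∀ S : Subgroup Q, IsPGroup q S → ∀ c ∈ S, ∀ s ∈ S, Cov q c → Cov q ⁅c, s⁆
  mem : ∀ q, q.Prime → ∀ M : Subgroup Q, M ≠ ⊤ → ∀ c ∈ M, Cov q c →
    ∃ D : Subgroup Q, D ≤ M ∧ IsPGroup q D ∧ M ≤ Subgroup.normalizer (D : Set Q) ∧ c ∈ D
  iter : ∀ q, q.Prime → ∀ P : Subgroup Q, IsPGroup q P →
    ∀ h ∈ Subgroup.normalizer (P : Set Q), ∀ u ∈ P, Cov q (itc h k u)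
  nil : ∀ M : Subgroup Q, M ≠ ⊤ → Group.IsNilpotent ((⊤ : Subgroup M).lowerCentralSeries k)

section Generic

theorem le_normalizer_of_conj {T : Set Q} {M : Subgroup Q}
    (h : ∀ g ∈ M, ∀ t ∈ T, g * t * g⁻¹ ∈ T) :
    M ≤ Subgroup.normalizer ((Subgroup.closure T : Subgroup Q) : Set Q) := by
  intro g hg
  have key : ∀ g ∈ M, ∀ x ∈ Subgroup.closure T, g * x * g⁻¹ ∈ Subgroup.closure T := by
    intro g hg x hx
    have hle : Subgroup.closure T ≤ (Subgroup.closure T).comap (MulAut.conj g).toMonoidHom :=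
      (Subgroup.closure_le _).mpr fun t ht => Subgroup.subset_closure (h g hg t ht)
    simpa using hle hx
  refine Subgroup.mem_normalizer_iff.mpr fun x => ⟨key g hg x, fun hx => ?_⟩
  have := key g⁻¹ (M.inv_mem hg) _ hx
  rwa [show g⁻¹ * (g * x * g⁻¹) * g⁻¹⁻¹ = x by group] at this

theorem exists_normalizing [Finite Q] {q : ℕ} [Fact q.Prime] {S J : Subgroup Q}
    (hS : IsPGroup q S) (hJ : J ≤ S) (hne : J ≠ S) :
    ∃ n ∈ S, n ∉ J ∧ n ∈ Subgroup.normalizer (J : Set Q) := by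
  haveI : Group.IsNilpotent S := hS.isNilpotent
  have hlt : J.subgroupOf S < ⊤ :=
    lt_top_iff_ne_top.mpr fun e => hne (le_antisymm hJ (Subgroup.subgroupOf_eq_top.mp e))
  obtain ⟨n, hn, hn'⟩ := SetLike.exists_of_lt (Group.normalizerCondition_of_isNilpotent _ hlt)
  refine ⟨(n : Q), n.2, fun hh => hn' hh, Subgroup.mem_normalizer_iff.mpr fun x => ?_⟩
  by_cases hx : x ∈ S
  · exact Subgroup.mem_normalizer_iff.mp hn ⟨x, hx⟩
  · refine ⟨fun hh => absurd (hJ hh) hx, fun hh => absurd ?_ hx⟩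
    have := S.mul_mem (S.mul_mem (S.inv_mem n.2) (hJ hh)) n.2
    rwa [show (n : Q)⁻¹ * (n * x * (n : Q)⁻¹) * n = x by group] at this

theorem le_of_pp [Finite Q] {H K : Subgroup Q}
    (h : ∀ q, q.Prime → ∀ x ∈ H, PEl q x → x ≠ 1 → x ∈ K) : H ≤ K := by
  rw [← Subgroup.subgroupOf_eq_top]
  refine eq_top_of_sylow_le _ fun q hq => ?_
  haveI := Fact.mk hq
  obtain ⟨P⟩ : Nonempty (Sylow q H) := inferInstance
  refine ⟨P, fun x hx => ?_⟩
  show (x : Q) ∈ K
  by_cases hx1 : (x : Q) = 1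
  · rw [hx1]; exact one_mem K
  obtain ⟨a, ha⟩ := pel_of_mem P.2 hx
  exact h q hq x x.2 ⟨a, congrArg Subtype.val ha⟩ hx1

theorem exists_pp [Finite Q] {H : Subgroup Q} (hH : H ≠ ⊥) :
    ∃ q, q.Prime ∧ ∃ x ∈ H, PEl q x ∧ x ≠ 1 := by
  by_contra hc
  push Not at hc
  refine hH (le_bot_iff.mp (le_of_pp fun q hq x hx hxp hx1 => absurd (hc q hq x hx hxp) hx1))

theorem sylow_eq_bot_of_le_commutator {H : Type*} [Group H] [Finite H] [Group.IsNilpotent H]
    {q : ℕ} [Fact q.Prime] (P : Sylow q H) (h : (P : Subgroup H) ≤ _root_.commutator H) :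
    (P : Subgroup H) = ⊥ := by
  obtain ⟨C, hC⟩ := Subgroup.exists_right_complement'_of_coprime P.card_coprime_index
  have h1 : C ⊔ frattini H = ⊤ := by
    rw [eq_top_iff, ← hC.symm.sup_eq_top]
    exact sup_le_sup_left (h.trans CfsgLib.Solvable.FrattiniFitting.commutator_le_frattini) C
  have h2 := frattini_nongenerating h1
  rw [h2] at hC
  exact Subgroup.isComplement'_top_right.mp hC

theorem sylow_le_of_nilpotent_quotient {H : Type*} [Group H] [Finite H] (N : Subgroup H) [N.Normal]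
    [Group.IsNilpotent (H ⧸ N)] {q : ℕ} [Fact q.Prime] (P : Sylow q H)
    (h : (P : Subgroup H) ≤ _root_.commutator H) : (P : Subgroup H) ≤ N := by
  have hsurj := QuotientGroup.mk'_surjective N
  have h1 : ((P.mapSurjective hsurj : Sylow q (H ⧸ N)) : Subgroup (H ⧸ N)) = ⊥ := by
    refine sylow_eq_bot_of_le_commutator _ ?_
    rw [Sylow.coe_mapSurjective, ← Subgroup.top_lowerCentralSeries_one]
    refine (Subgroup.map_mono (h.trans_eq Subgroup.top_lowerCentralSeries_one.symm)).trans ?_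
    exact lowerCentralSeries.map _ 1
  rw [Sylow.coe_mapSurjective, Subgroup.map_eq_bot_iff, QuotientGroup.ker_mk'] at h1
  exact h1

theorem nilpotent_quotient_of_lcs_le {H : Type*} [Group H] (N : Subgroup H) [N.Normal] {k : ℕ}
    (h : (⊤ : Subgroup H).lowerCentralSeries k ≤ N) : Group.IsNilpotent (H ⧸ N) := by
  rw [Subgroup.nilpotent_iff_lowerCentralSeries]
  refine ⟨k, ?_⟩
  have h1 := Subgroup.map_lowerCentralSeries (⊤ : Subgroup H) (QuotientGroup.mk' N) k
  rw [Subgroup.map_top_of_surjective _ (QuotientGroup.mk'_surjective N)] at h1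
  rw [← h1, Subgroup.map_eq_bot_iff, QuotientGroup.ker_mk']
  exact h

end Generic

/-- The subgroup generated by the covered `q`-elements of `S`. -/
def gen (Cov : ℕ → Q → Prop) (q : ℕ) (S : Subgroup Q) : Subgroup Q :=
  Subgroup.closure {c | c ∈ S ∧ Cov q c}

/-- The maximal subgroup attached to a Sylow subgroup. -/
def ms (Cov : ℕ → Q → Prop) (q : ℕ) (S : Subgroup Q) : Subgroup Q :=
  Subgroup.normalizer (gen Cov q S : Set Q)

/-- `M` is the maximal subgroup attached to the element `t`. -/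
def Own (Cov : ℕ → Q → Prop) (M : Subgroup Q) (t : Q) : Prop :=
  t ≠ 1 ∧ ∃ q, q.Prime ∧ ∃ S : Sylow q Q, t ∈ S ∧ ms Cov q S = M

variable [Finite Q] {k : ℕ} {Cov : ℕ → Q → Prop}

theorem Ax.normal_cases (hA : Ax Q k Cov) (N : Subgroup Q) (hN : N.Normal) : N = ⊥ ∨ N = ⊤ := by
  haveI := hA.simple
  exact IsSimpleGroup.eq_bot_or_eq_top_of_normal N hN

theorem Ax.pgroup_ne_top (hA : Ax Q k Cov) {q : ℕ} [Fact q.Prime] {P : Subgroup Q}
    (hP : IsPGroup q P) : P ≠ ⊤ := by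
  rintro rfl
  have h1 : IsPGroup q Q := hP.of_equiv Subgroup.topEquiv
  haveI := h1.isNilpotent
  exact hA.ns inferInstance

theorem Ax.normalizer_ne_top (hA : Ax Q k Cov) {q : ℕ} [Fact q.Prime] {P : Subgroup Q}
    (hP : IsPGroup q P) (hne : P ≠ ⊥) : Subgroup.normalizer (P : Set Q) ≠ ⊤ := fun h =>
  (hA.normal_cases P (Subgroup.normalizer_eq_top_iff.mp h)).elim hne (hA.pgroup_ne_top hP)

theorem Ax.centralizer_ne_top (hA : Ax Q k Cov) {x : Q} (hx : x ≠ 1) :
    Subgroup.centralizer ({x} : Set Q) ≠ ⊤ := by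
  intro h
  have hxc : x ∈ Subgroup.center Q := Subgroup.mem_center_iff.mpr fun g =>
    (Subgroup.mem_centralizer_singleton_iff.mp (show g ∈ Subgroup.centralizer ({x} : Set Q) by
      rw [h]; trivial))
  rcases hA.normal_cases (Subgroup.center Q) inferInstance with hc | hc
  · rw [hc, Subgroup.mem_bot] at hxc; exact hx hxc
  · exact hA.ns (Group.isSolvable_of_comm fun a b =>
      (Subgroup.mem_center_iff.mp (show b ∈ Subgroup.center Q by rw [hc]; trivial) a))

theorem Ax.exists_cov (hA : Ax Q k Cov) {q : ℕ} [hq : Fact q.Prime] (S : Sylow q Q)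
    (hS : (S : Subgroup Q) ≠ ⊥) : ∃ c ∈ S, Cov q c ∧ c ≠ 1 := by
  by_contra hc
  push Not at hc
  obtain ⟨T, N, hN, hcomp⟩ : Cfsg.HasNormalPComplement q Q := by
    refine CfsgLib.Fusion.Alperin.npc_of_frobenius S fun P hP g hg hgc => ?_
    rw [Subgroup.mem_centralizer_iff]
    intro u hu
    refine (commute_of_itc hg (fun a ha => ?_) k hu
      (hc _ (hP (itc_mem hg k hu)) (hA.iter q hq.out P (S.2.to_le hP) g hg u hu))).eq
    obtain ⟨b, hb⟩ := (pel_of_mem (S.2.to_le hP) ha).orderOf hq.out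
    rw [hb]; exact hgc.pow_right b
  rcases hA.normal_cases N hN with rfl | rfl
  · exact hA.pgroup_ne_top T.2 (Subgroup.isComplement'_bot_left.mp hcomp)
  · have h1 := Subgroup.isComplement'_top_left.mp hcomp
    have h2 := Nat.card_congr (S.equiv T).toEquiv
    rw [show Nat.card (T : Subgroup Q) = 1 by rw [h1]; exact Subgroup.card_bot] at h2
    exact hS (Subgroup.card_eq_one.mp h2)

theorem Ax.exists_central (hA : Ax Q k Cov) {q : ℕ} [hq : Fact q.Prime] (S : Sylow q Q)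
    (hS : (S : Subgroup Q) ≠ ⊥) :
    ∃ c ∈ S, Cov q c ∧ c ≠ 1 ∧ ∀ s ∈ S, Commute c s := by
  by_contra hc
  push Not at hc
  haveI : Group.IsNilpotent (S : Subgroup Q) := S.2.isNilpotent
  obtain ⟨n, hn⟩ := (Subgroup.isNilpotent_iff_lowerCentralSeries (S : Subgroup Q)).mp inferInstance
  have : ∀ j : ℕ, ∃ c ∈ (S : Subgroup Q).lowerCentralSeries j, Cov q c ∧ c ≠ 1 := by
    intro j
    induction j with
    | zero => exact hA.exists_cov S hS
    | succ j ih =>
      obtain ⟨c, hcj, hcov, hc1⟩ := ih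
      have hcS : c ∈ S := (S : Subgroup Q).lowerCentralSeries_le_self j hcj
      obtain ⟨s, hs, hns⟩ := hc c hcS hcov hc1
      exact ⟨⁅c, s⁆, by
        rw [Subgroup.lowerCentralSeries_succ]; exact Subgroup.commutator_mem_commutator hcj hs,
        hA.comm q hq.out S S.2 c hcS s hs hcov,
        fun h => hns (commutatorElement_eq_one_iff_mul_comm.mp h)⟩
  obtain ⟨c, hcn, -, hc1⟩ := this n
  rw [hn, Subgroup.mem_bot] at hcn
  exact hc1 hcn

theorem sylow_ne_bot {q : ℕ} {S : Sylow q Q} {c : Q} (hc : c ∈ S) (hc1 : c ≠ 1) :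
    (S : Subgroup Q) ≠ ⊥ := fun h => hc1 (by
  have : c ∈ (⊥ : Subgroup Q) := h ▸ hc
  simpa using this)

/-- A maximal subgroup containing a covered element contains full Sylow subgroups. -/
theorem Ax.cov_sylow (hA : Ax Q k Cov) {q : ℕ} [hq : Fact q.Prime] {M : Subgroup Q}
    (hM : IsCoatom M) {c : Q} (hcM : c ∈ M) (hc : Cov q c) (hc1 : c ≠ 1)
    {T : Subgroup Q} (hT : IsPGroup q T) (hTM : T ≤ M) :
    ∃ S : Sylow q Q, T ≤ (S : Subgroup Q) ∧ (S : Subgroup Q) ≤ M ∧ c ∈ S ∧ ms Cov q S = M := by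
  obtain ⟨U, hU⟩ := (hT.comap_subtype (K := M)).exists_le_sylow
  set T₁ := (U : Subgroup M).map M.subtype with hT₁
  have hT₁p : IsPGroup q T₁ := U.2.map _
  have hT₁M : T₁ ≤ M := Subgroup.map_subtype_le _
  have hTT₁ : T ≤ T₁ := fun x hx => ⟨⟨x, hTM hx⟩, hU hx, rfl⟩
  have hcov : ∀ x ∈ M, Cov q x → x ∈ T₁ := by
    intro x hx hxc
    obtain ⟨D, hDM, hDp, hDn, hxD⟩ := hA.mem q hq.out M hM.1 x hx hxc
    haveI : (D.comap M.subtype).Normal := (Subgroup.normal_subgroupOf_iff_le_normalizer hDM).mpr hDn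
    exact ⟨⟨x, hx⟩, (hDp.comap_subtype (K := M)).le_sylow_of_normal U hxD, rfl⟩
  obtain ⟨S, hS⟩ := hT₁p.exists_le_sylow
  have hinf : (S : Subgroup Q) ⊓ M ≤ T₁ := by
    intro x hx
    have h1 : (((S : Subgroup Q) ⊓ M).subgroupOf M) = (U : Subgroup M) :=
      U.3 ((S.2.to_le inf_le_left).comap_subtype) fun y hy =>
        ⟨hS ⟨y, hy, rfl⟩, y.2⟩
    exact ⟨⟨x, hx.2⟩, by rw [← h1]; exact hx, rfl⟩
  have hmsle : ∀ R : Subgroup Q, (∀ x ∈ M, Cov q x → x ∈ R) → R ≤ M → ms Cov q R = M := by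
    intro R hR hRM
    have hle : M ≤ ms Cov q R := by
      refine le_normalizer_of_conj fun g hg t ht => ?_
      have := M.mul_mem (M.mul_mem hg (hRM ht.1)) (M.inv_mem hg)
      exact ⟨hR _ this (hA.conj q t g ht.2), hA.conj q t g ht.2⟩
    refine (hM.le_iff.mp hle).resolve_left fun h => ?_
    have hgen : gen Cov q R ≤ T₁ :=
      (Subgroup.closure_le _).mpr fun x hx => hcov x (hRM hx.1) hx.2
    refine hA.normalizer_ne_top (hT₁p.to_le hgen) (fun h0 => hc1 ?_) h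
    have : c ∈ gen Cov q R := Subgroup.subset_closure ⟨hR c hcM hc, hc⟩
    rwa [h0, Subgroup.mem_bot] at this
  have hSM : T₁ = (S : Subgroup Q) := by
    by_contra hne
    obtain ⟨n, hnS, hnT, hnn⟩ := exists_normalizing S.2 hS hne
    apply hnT
    refine hinf ⟨hnS, ?_⟩
    rw [← hmsle T₁ hcov hT₁M]
    have : Subgroup.normalizer (T₁ : Set Q) ≤ ms Cov q T₁ :=
      le_normalizer_of_conj fun g hg t ht =>
        ⟨(Subgroup.mem_normalizer_iff.mp hg t).mp ht.1, hA.conj q t g ht.2⟩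
    exact this hnn
  refine ⟨S, hSM ▸ hTT₁, hSM ▸ hT₁M, ?_, hSM ▸ hmsle T₁ hcov hT₁M⟩
  have := hcov c hcM hc
  rwa [hSM] at this

theorem Ax.ms_coatom (hA : Ax Q k Cov) {q : ℕ} [hq : Fact q.Prime] (S : Sylow q Q)
    (hS : (S : Subgroup Q) ≠ ⊥) :
    IsCoatom (ms Cov q S) ∧ Subgroup.normalizer ((S : Subgroup Q) : Set Q) ≤ ms Cov q S := by
  obtain ⟨c, hcS, hc, hc1, -⟩ := hA.exists_central S hS
  have hle : Subgroup.normalizer ((S : Subgroup Q) : Set Q) ≤ ms Cov q S :=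
    le_normalizer_of_conj fun g hg t ht =>
      ⟨(Subgroup.mem_normalizer_iff.mp hg t).mp ht.1, hA.conj q t g ht.2⟩
  have hne : ms Cov q S ≠ ⊤ := by
    refine hA.normalizer_ne_top (S.2.to_le ((Subgroup.closure_le _).mpr fun x hx => hx.1))
      fun h0 => hc1 ?_
    have : c ∈ gen Cov q (S : Subgroup Q) := Subgroup.subset_closure ⟨hcS, hc⟩
    rwa [h0, Subgroup.mem_bot] at this
  obtain ⟨M, hM, hleM⟩ := (eq_top_or_exists_le_coatom (ms Cov q S)).resolve_left hne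
  obtain ⟨S', hSS', -, -, hms⟩ := hA.cov_sylow hM (hleM (hle (Subgroup.le_normalizer hcS))) hc hc1
    S.2 ((Subgroup.le_normalizer.trans hle).trans hleM)
  rw [show (S' : Subgroup Q) = (S : Subgroup Q) from S.3 S'.2 hSS'] at hms
  exact ⟨hms ▸ hM, hle⟩

theorem Ax.sylow_le_ms (hA : Ax Q k Cov) {q : ℕ} [hq : Fact q.Prime] (S : Sylow q Q)
    (hS : (S : Subgroup Q) ≠ ⊥) : (S : Subgroup Q) ≤ ms Cov q S :=
  Subgroup.le_normalizer.trans (hA.ms_coatom S hS).2

theorem Ax.inter_aux (hA : Ax Q k Cov) {q : ℕ} [hq : Fact q.Prime] :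
    ∀ (m : ℕ) (S S' : Sylow q Q) (c : Q), Cov q c → c ≠ 1 → c ∈ S → c ∈ S' →
      Nat.card Q ≤ Nat.card ((S : Subgroup Q) ⊓ S' : Subgroup Q) + m →
      ms Cov q (S : Subgroup Q) = ms Cov q S' := by
  intro m
  induction m with
  | zero =>
    intro S S' c hc hc1 hcS hcS' hcard
    exact absurd (Subgroup.eq_top_of_le_card _ (by simpa using hcard))
      (fun h => hA.pgroup_ne_top (S.2.to_le inf_le_left) h)
  | succ m ih =>
    intro S S' c hc hc1 hcS hcS' hcard
    set J := (S : Subgroup Q) ⊓ S' with hJ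
    by_cases hJS : J = (S : Subgroup Q)
    · rw [S.3 S'.2 (inf_eq_left.mp hJS)]
    by_cases hJS' : J = (S' : Subgroup Q)
    · rw [S'.3 S.2 (inf_eq_right.mp hJS')]
    have hcJ : c ∈ J := ⟨hcS, hcS'⟩
    have hJne : J ≠ ⊥ := fun h => hc1 (by rw [h, Subgroup.mem_bot] at hcJ; exact hcJ)
    have hJp : IsPGroup q J := S.2.to_le inf_le_left
    obtain ⟨M, hM, hleM⟩ :=
      (eq_top_or_exists_le_coatom _).resolve_left (hA.normalizer_ne_top hJp hJne)
    have hcM : c ∈ M := hleM (Subgroup.le_normalizer hcJ)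
    have key : ∀ R : Sylow q Q, J ≤ (R : Subgroup Q) → J ≠ (R : Subgroup Q) →
        ms Cov q (R : Subgroup Q) = M := by
      intro R hJR hne
      obtain ⟨n, hnR, hnJ, hnn⟩ := exists_normalizing R.2 hJR hne
      set T := (R : Subgroup Q) ⊓ Subgroup.normalizer (J : Set Q) with hT
      obtain ⟨R', hTR', -, hcR', hms⟩ := hA.cov_sylow hM hcM hc hc1 (T := T)
        (R.2.to_le inf_le_left) (inf_le_right.trans hleM)
      rw [← hms]
      refine ih R R' c hc hc1 (hJR hcJ) hcR' ?_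
      have hlt : J < (R : Subgroup Q) ⊓ R' := by
        refine lt_of_le_of_ne
          (le_inf hJR ((le_inf hJR Subgroup.le_normalizer).trans hTR')) fun e => hnJ ?_
        rw [e]; exact ⟨hnR, hTR' ⟨hnR, hnn⟩⟩
      have := Set.Finite.card_lt_card (Set.toFinite _) (SetLike.coe_ssubset_coe.mpr hlt)
      simp only [SetLike.coe_sort_coe] at this
      omega
    rw [key S inf_le_left hJS, key S' inf_le_right hJS']

theorem Ax.inter (hA : Ax Q k Cov) {q : ℕ} [hq : Fact q.Prime] {S S' : Sylow q Q} {c : Q}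
    (hc : Cov q c) (hc1 : c ≠ 1) (hcS : c ∈ S) (hcS' : c ∈ S') :
    ms Cov q (S : Subgroup Q) = ms Cov q S' :=
  hA.inter_aux (Nat.card Q) S S' c hc hc1 hcS hcS' (Nat.le_add_left _ _)

theorem Ax.cov_unique (hA : Ax Q k Cov) {q : ℕ} [hq : Fact q.Prime] {M : Subgroup Q}
    (hM : IsCoatom M) {c : Q} (hcM : c ∈ M) (hc : Cov q c) (hc1 : c ≠ 1) (S : Sylow q Q)
    (hcS : c ∈ S) : ms Cov q S = M := by
  obtain ⟨S', -, -, hcS', hms⟩ := hA.cov_sylow hM hcM hc hc1 IsPGroup.of_bot bot_le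
  rw [← hms]
  exact hA.inter hc hc1 hcS hcS'

theorem Ax.cov_eq (hA : Ax Q k Cov) {q : ℕ} [hq : Fact q.Prime] {M H : Subgroup Q}
    (hM : IsCoatom M) (hH : IsCoatom H) {c : Q} (hcM : c ∈ M) (hcH : c ∈ H) (hc : Cov q c)
    (hc1 : c ≠ 1) : M = H := by
  obtain ⟨S, -, -, hcS, hms⟩ := hA.cov_sylow hM hcM hc hc1 IsPGroup.of_bot bot_le
  rw [← hms]
  exact hA.cov_unique hH hcH hc hc1 S hcS

theorem Ax.centralizer_le (hA : Ax Q k Cov) {q : ℕ} [hq : Fact q.Prime] (S : Sylow q Q) {t : Q}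
    (ht : t ∈ S) (ht1 : t ≠ 1) : Subgroup.centralizer ({t} : Set Q) ≤ ms Cov q S := by
  obtain ⟨c, hcS, hc, hc1, hcomm⟩ := hA.exists_central S (sylow_ne_bot ht ht1)
  obtain ⟨M, hM, hle⟩ :=
    (eq_top_or_exists_le_coatom _).resolve_left (hA.centralizer_ne_top ht1)
  rw [hA.cov_unique hM (hle (Subgroup.mem_centralizer_singleton_iff.mpr (hcomm t ht).eq)) hc hc1 S
    hcS]
  exact hle

theorem Ax.ms_unique (hA : Ax Q k Cov) {q : ℕ} [hq : Fact q.Prime] (S S' : Sylow q Q) {t : Q}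
    (ht : t ∈ S) (ht' : t ∈ S') (ht1 : t ≠ 1) :
    ms Cov q (S : Subgroup Q) = ms Cov q S' := by
  obtain ⟨c, hcS, hc, hc1, hcomm⟩ := hA.exists_central S' (sylow_ne_bot ht' ht1)
  refine (hA.cov_unique (hA.ms_coatom S (sylow_ne_bot ht ht1)).1 ?_ hc hc1 S' hcS).symm
  exact hA.centralizer_le S ht ht1
    (Subgroup.mem_centralizer_singleton_iff.mpr (hcomm t ht').eq)

theorem Ax.own_unique (hA : Ax Q k Cov) {M H : Subgroup Q} {t : Q} (h : Own Cov M t)
    (h' : Own Cov H t) : M = H := by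
  obtain ⟨ht1, q, hq, S, htS, rfl⟩ := h
  obtain ⟨-, r, hr, R, htR, rfl⟩ := h'
  by_cases hqr : q = r
  · subst hqr
    haveI := Fact.mk hq
    exact hA.ms_unique S R htS htR ht1
  · exact absurd (eq_one_of_pel hq hr hqr (pel_of_mem S.2 htS) (pel_of_mem R.2 htR)) ht1

theorem exists_own {q : ℕ} (hq : q.Prime) {t : Q} (ht : PEl q t) (ht1 : t ≠ 1) :
    ∃ S : Sylow q Q, t ∈ S ∧ Own Cov (ms Cov q S) t := by
  obtain ⟨S, hS⟩ := ht.isPGroup_zpowers.exists_le_sylow
  exact ⟨S, hS (Subgroup.mem_zpowers t), ht1, q, hq, S, hS (Subgroup.mem_zpowers t), rfl⟩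

theorem Ax.own_coatom (hA : Ax Q k Cov) {M : Subgroup Q} {t : Q} (h : Own Cov M t) :
    IsCoatom M := by
  obtain ⟨ht1, q, hq, S, htS, rfl⟩ := h
  haveI := Fact.mk hq
  exact (hA.ms_coatom S (sylow_ne_bot htS ht1)).1

theorem Ax.own_centralizer (hA : Ax Q k Cov) {M : Subgroup Q} {t : Q} (h : Own Cov M t) {x : Q}
    (hx : Commute t x) : x ∈ M := by
  obtain ⟨ht1, q, hq, S, htS, rfl⟩ := h
  haveI := Fact.mk hq
  exact hA.centralizer_le S htS ht1 (Subgroup.mem_centralizer_singleton_iff.mpr hx.eq.symm)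

theorem Ax.own_mem (hA : Ax Q k Cov) {M : Subgroup Q} {t : Q} (h : Own Cov M t) : t ∈ M :=
  hA.own_centralizer h (Commute.refl t)

theorem gen_conj (hA : Ax Q k Cov) (q : ℕ) (S : Subgroup Q) (g : Q) :
    (gen Cov q S).map (MulAut.conj g).toMonoidHom =
      gen Cov q (S.map (MulAut.conj g).toMonoidHom) := by
  rw [gen, MonoidHom.map_closure]
  congr 1
  ext x
  constructor
  · rintro ⟨c, ⟨hc, hcov⟩, rfl⟩
    exact ⟨⟨c, hc, rfl⟩, by simpa using hA.conj q c g hcov⟩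
  · rintro ⟨⟨c, hc, rfl⟩, hcov⟩
    refine ⟨c, ⟨hc, ?_⟩, rfl⟩
    have := hA.conj q _ g⁻¹ hcov
    simpa [mul_assoc] using this

theorem Ax.ms_conj (hA : Ax Q k Cov) {q : ℕ} (S : Sylow q Q) (g : Q) :
    ∃ S' : Sylow q Q, (∀ x, x ∈ S → g * x * g⁻¹ ∈ S') ∧
      ms Cov q S' = (ms Cov q S).map (MulAut.conj g).toMonoidHom := by
  refine ⟨g • S, fun x hx => ?_, ?_⟩
  · exact Sylow.coe_subgroup_smul.ge ⟨x, hx, rfl⟩
  · have h1 : ((g • S : Sylow q Q) : Subgroup Q) =
        (S : Subgroup Q).map (MulAut.conj g).toMonoidHom := rfl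
    rw [h1, ms, ← gen_conj hA, ms]
    exact (Subgroup.map_equiv_normalizer_eq (gen Cov q (S : Subgroup Q)) (MulAut.conj g)).symm

theorem Ax.own_conj (hA : Ax Q k Cov) {M : Subgroup Q} {t : Q} (h : Own Cov M t) (g : Q) :
    Own Cov (M.map (MulAut.conj g).toMonoidHom) (g * t * g⁻¹) := by
  obtain ⟨ht1, q, hq, S, htS, rfl⟩ := h
  obtain ⟨S', hS', hms⟩ := hA.ms_conj S g
  exact ⟨fun h => ht1 (conj_eq_one_iff.mp h), q, hq, S', hS' t htS, hms⟩

theorem Ax.mem_of_map_eq (hA : Ax Q k Cov) {M : Subgroup Q} (hM : IsCoatom M) (hne : M ≠ ⊥)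
    {g : Q} (h : M.map (MulAut.conj g).toMonoidHom = M) : g ∈ M := by
  have hg : g ∈ Subgroup.normalizer (M : Set Q) := by
    refine Subgroup.mem_normalizer_iff.mpr fun x => ⟨fun hx => ?_, fun hx => ?_⟩
    · rw [← h]; exact ⟨x, hx, rfl⟩
    · rw [← h] at hx
      obtain ⟨y, hy, he⟩ := hx
      have : y = x := (MulAut.conj g).injective (by simpa using he)
      rwa [← this]
  rcases hM.le_iff.mp (Subgroup.le_normalizer : M ≤ Subgroup.normalizer (M : Set Q)) with h1 | h1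
  · exact absurd (Subgroup.normalizer_eq_top_iff.mp h1)
      (fun hn => (hA.normal_cases M hn).elim hne hM.1)
  · rwa [h1] at hg

theorem Ax.own_of_ms (hA : Ax Q k Cov) {q : ℕ} [hq : Fact q.Prime] (S : Sylow q Q)
    (hS : (S : Subgroup Q) ≠ ⊥) {t : Q} (ht : PEl q t) (ht1 : t ≠ 1)
    (htM : t ∈ ms Cov q S) : Own Cov (ms Cov q S) t := by
  obtain ⟨c, hcS, hc, hc1, -⟩ := hA.exists_central S hS
  obtain ⟨S', hS', -, -, hms⟩ := hA.cov_sylow (hA.ms_coatom S hS).1 (hA.sylow_le_ms S hS hcS) hc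
    hc1 ht.isPGroup_zpowers (Subgroup.zpowers_le.mpr htM)
  exact ⟨ht1, q, hq.out, S', hS' (Subgroup.mem_zpowers t), hms⟩

theorem Ax.sylow_le_commutator (hA : Ax Q k Cov) {q : ℕ} [hq : Fact q.Prime] (S : Sylow q Q)
    (hS : (S : Subgroup Q) ≠ ⊥) :
    (S : Subgroup Q) ≤ ⁅ms Cov q (S : Subgroup Q), ms Cov q (S : Subgroup Q)⁆ := by
  have hperf : _root_.commutator Q = ⊤ :=
    (hA.normal_cases _ inferInstance).resolve_left fun h => hA.ns
      (Group.isSolvable_of_comm fun a b => commutatorElement_eq_one_iff_mul_comm.mp (by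
        have : ⁅a, b⁆ ∈ (⊥ : Subgroup Q) := h ▸ Subgroup.commutator_mem_commutator
          (Subgroup.mem_top a) (Subgroup.mem_top b)
        simpa using this))
  have h1 := Subgroup.commutator_inf_eq_focalSubgroup S
  rw [hperf, top_inf_eq] at h1
  refine h1.le.trans ((Subgroup.closure_le _).mpr ?_)
  rintro _ ⟨hgS, x, hx, u, rfl⟩
  have hM := hA.sylow_le_ms S hS
  by_cases hx1 : x = 1
  · rw [hx1, commutatorElement_one_left]; exact one_mem _
  refine Subgroup.commutator_mem_commutator (hM hx) ?_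
  have hy : u * x * u⁻¹ ∈ (S : Subgroup Q) := by
    have := (S : Subgroup Q).inv_mem ((S : Subgroup Q).mul_mem ((S : Subgroup Q).inv_mem hx) hgS)
    simpa [commutatorElement_def, mul_assoc] using this
  have hy1 : u * x * u⁻¹ ≠ 1 := fun h => hx1 (conj_eq_one_iff.mp h)
  refine hA.mem_of_map_eq (hA.ms_coatom S hS).1 (fun h => hS (le_bot_iff.mp (h ▸ hM))) ?_
  exact hA.own_unique (hA.own_conj ⟨hx1, q, hq.out, S, hx, rfl⟩ u) ⟨hy1, q, hq.out, S, hy, rfl⟩

theorem Ax.ms_eq (hA : Ax Q k Cov) {q : ℕ} [hq : Fact q.Prime] (S : Sylow q Q)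
    (hS : (S : Subgroup Q) ≠ ⊥) :
    ms Cov q (S : Subgroup Q) = Subgroup.normalizer ((S : Subgroup Q) : Set Q) := by
  set M := ms Cov q (S : Subgroup Q) with hMdef
  have hM := (hA.ms_coatom S hS).1
  have hSM : (S : Subgroup Q) ≤ M := hA.sylow_le_ms S hS
  refine le_antisymm ?_ (hA.ms_coatom S hS).2
  haveI := hA.nil M hM.1
  haveI := nilpotent_quotient_of_lcs_le ((⊤ : Subgroup M).lowerCentralSeries k) le_rfl
  let S₁ : Sylow q M := S.subtype hSM
  have h1 : (S₁ : Subgroup M) ≤ _root_.commutator M := by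
    intro x hx
    have := hA.sylow_le_commutator S hS (show (x : Q) ∈ S from hx)
    rw [← hMdef, ← Subgroup.map_subtype_commutator M] at this
    obtain ⟨y, hy, he⟩ := this
    rwa [← Subtype.ext he]
  have h2 := sylow_le_of_nilpotent_quotient ((⊤ : Subgroup M).lowerCentralSeries k) S₁ h1
  haveI : (S₁ : Subgroup M).Normal := by
    set N := (⊤ : Subgroup M).lowerCentralSeries k
    let P : Sylow q N := S₁.subtype h2
    haveI : (P : Subgroup N).Characteristic := P.characteristic_of_normal inferInstance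
    have : (P : Subgroup N).map N.subtype = (S₁ : Subgroup M) := by
      rw [Sylow.coe_subtype, Subgroup.subgroupOf_map_subtype, inf_eq_left.mpr h2]
    rw [← this]
    infer_instance
  have h3 : ((S : Subgroup Q).subgroupOf M).Normal := by
    rw [← Sylow.coe_subtype S]; infer_instance
  exact (Subgroup.normal_subgroupOf_iff_le_normalizer hSM).mp h3

/-- A `q`-element of the maximal subgroup attached to `S` lies in `S`. -/
theorem Ax.mem_sylow (hA : Ax Q k Cov) {q : ℕ} [hq : Fact q.Prime] (S : Sylow q Q)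
    (hS : (S : Subgroup Q) ≠ ⊥) {t : Q} (ht : PEl q t) (htM : t ∈ ms Cov q S) : t ∈ S := by
  rw [hA.ms_eq S hS] at htM
  have h := ht.isPGroup_zpowers.to_sup_of_normal_right' S.2 (Subgroup.zpowers_le.mpr htM)
  rw [← SetLike.mem_coe, ← Sylow.coe_coe, ← S.3 h le_sup_right]
  exact Subgroup.mem_sup_left (Subgroup.mem_zpowers t)

theorem Ax.cov_own (hA : Ax Q k Cov) {q : ℕ} [hq : Fact q.Prime] {M : Subgroup Q}
    (hM : IsCoatom M) {c : Q} (hcM : c ∈ M) (hc : Cov q c) (hc1 : c ≠ 1) : Own Cov M c := by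
  obtain ⟨S, -, -, hcS, hms⟩ := hA.cov_sylow hM hcM hc hc1 IsPGroup.of_bot bot_le
  exact ⟨hc1, q, hq.out, S, hcS, hms⟩

/-- If a normalising element of coprime order fixes no nontrivial element of `S`, all of `S` is
covered. -/
theorem Ax.cov_of_fpf (hA : Ax Q k Cov) {q : ℕ} [hq : Fact q.Prime] (S : Sylow q Q) {h : Q}
    (hh : h ∈ Subgroup.normalizer ((S : Subgroup Q) : Set Q))
    (hfix : ∀ s ∈ S, Commute s h → s = 1) {s : Q} (hs : s ∈ S) : Cov q s := by
  let φ : ↥(S : Subgroup Q) → ↥(S : Subgroup Q) := fun u => ⟨⁅(u : Q), h⁆, comm_mem hh u.2⟩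
  have hinj : Function.Injective φ := by
    intro a b e
    have e' : ⁅(a : Q), h⁆ = ⁅(b : Q), h⁆ := congrArg Subtype.val e
    rw [commutatorElement_def, commutatorElement_def] at e'
    have e'' : (a : Q) * h * (a : Q)⁻¹ = b * h * (b : Q)⁻¹ := mul_right_cancel e'
    have hc : Commute ((b : Q)⁻¹ * a) h := by
      have := congrArg (fun z => (b : Q)⁻¹ * z * a) e''
      simp only [mul_assoc, inv_mul_cancel, mul_one, inv_mul_cancel_left] at this
      show (b : Q)⁻¹ * a * h = h * ((b : Q)⁻¹ * a)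
      rw [mul_assoc]; exact this
    exact Subtype.ext (inv_mul_eq_one.mp (hfix _ (mul_mem (inv_mem b.2) a.2) hc)).symm
  have hiter : ∀ n (u : ↥(S : Subgroup Q)), ((φ^[n] u : ↥(S : Subgroup Q)) : Q) = itc h n (u : Q) := by
    intro n
    induction n with
    | zero => intro u; rfl
    | succ n ih => intro u; rw [Function.iterate_succ_apply, ih]; rfl
  obtain ⟨u, hu⟩ := (Finite.injective_iff_surjective.mp hinj).iterate k ⟨s, hs⟩
  have := hA.iter q hq.out S S.2 h hh u u.2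
  rwa [← hiter, hu] at this

end CfsgLib.GammaCrit
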