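import Cfsg.Agent.Lib.Solvable.GammaCriterion.Count

/-!
The criterion: a finite group with the coprime commutator condition is solvable, and the term of
the lower central series is nilpotent.
-/

set_option autoImplicit false
open scoped commutatorElement
open CfsgLib.Solvable.Cores

universe u

namespace CfsgLib.GammaCrit

theorem solvable_aux (k : ℕ) : ∀ (m : ℕ) (G : Type u) [Group G] [Finite G], Nat.card G ≤ m →
    ∀ Y : Set G, Good k Y → Group.IsSolvable G := by
  intro m
  induction m with
  | zero => intro G _ _ h; exact absurd h (by have := Nat.card_pos (α := G); omega)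
  | succ m ih =>
    intro G _ _ hcard Y hY
    have hsub : ∀ H : Subgroup G, H ≠ ⊤ → Group.IsSolvable H := fun H hH => by
      refine ih H ?_ _ (hY.subgroup H)
      have : Nat.card H ≠ Nat.card G := fun e => hH (Subgroup.eq_top_of_card_eq H e)
      have := Subgroup.card_le_card_group H
      omega
    by_cases htriv : Subsingleton G
    · exact Group.isSolvable_of_comm fun a b => Subsingleton.elim _ _
    haveI : Nontrivial G := not_subsingleton_iff_nontrivial.mp htriv
    obtain ⟨R, hR⟩ := (Set.toFinite {N : Subgroup G | N.Normal ∧ N ≠ ⊤}).exists_maximal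
      ⟨⊥, inferInstance, bot_ne_top⟩
    haveI hRn : R.Normal := hR.prop.1
    haveI := hsub R hR.prop.2
    set f := QuotientGroup.mk' R
    have hf := QuotientGroup.mk'_surjective R
    by_cases hQ : Group.IsSolvable (G ⧸ R)
    · exact Group.isSolvable_of_ker_le_range R.subtype f (by simp [f])
    exfalso
    have hcomap : ∀ M : Subgroup (G ⧸ R), M ≠ ⊤ → M.comap f ≠ ⊤ := fun M hM h => hM (by
      rw [← Subgroup.map_comap_eq_self_of_surjective hf M, h, Subgroup.map_top_of_surjective f hf])
    haveI : Nontrivial (G ⧸ R) := QuotientGroup.nontrivial_iff.mpr hR.prop.2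
    have hsimple : IsSimpleGroup (G ⧸ R) := by
      refine ⟨fun N hN => ?_⟩
      by_cases hNt : N = ⊤
      · exact Or.inr hNt
      left
      haveI : (N.comap f).Normal := hN.comap f
      have hle := hR.2 (y := N.comap f) ⟨inferInstance, hcomap N hNt⟩
        (QuotientGroup.le_comap_mk' R N)
      rw [← Subgroup.map_comap_eq_self_of_surjective hf N, Subgroup.map_eq_bot_iff,
        QuotientGroup.ker_mk']
      exact hle
    refine (?_ : Ax (G ⧸ R) k fun q c => ∃ y ∈ Y, PEl q y ∧ f y = c).contradiction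
    refine ⟨hsimple, hQ, ?_, ?_, ?_, ?_, ?_, ?_⟩
    · rintro q _ ⟨y, -, hy, rfl⟩
      exact hy.map f
    · rintro q _ g ⟨y, hy, hyp, rfl⟩
      obtain ⟨g₀, rfl⟩ := hf g
      exact ⟨g₀ * y * g₀⁻¹, hY.conj y hy g₀, hyp.conj g₀, by simp [f]⟩
    · rintro q hq S hS _ hc s hs ⟨y, hy, hyp, rfl⟩
      haveI := Fact.mk hq
      set H₀ := S.comap f
      have hy0 : y ∈ H₀ := hc
      have hyz : IsPGroup q (Subgroup.zpowers (⟨y, hy0⟩ : H₀)) := by
        refine PEl.isPGroup_zpowers ?_
        obtain ⟨a, ha⟩ := hyp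
        exact ⟨a, Subtype.ext ha⟩
      obtain ⟨P, hP⟩ := hyz.exists_le_sylow
      have hg : Function.Surjective (f.subgroupComap S) :=
        MonoidHom.subgroupComap_surjective_of_surjective f S hf
      have htop : ((P.mapSurjective hg : Sylow q S) : Subgroup S) = ⊤ :=
        ((P.mapSurjective hg).3 (Q := ⊤) (hS.to_subgroup ⊤) le_top).symm
      obtain ⟨s', hs', hse⟩ : (⟨s, hs⟩ : S) ∈ ((P.mapSurjective hg : Sylow q S) : Subgroup S) := by
        rw [htop]; trivial
      have hse' : f (s' : G) = s := congrArg Subtype.val hse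
      have hmem : ⁅(⟨y, hy0⟩ : H₀), s'⁆ ∈ (P : Subgroup H₀) := by
        rw [commutatorElement_def]
        exact mul_mem (mul_mem (mul_mem (hP (Subgroup.mem_zpowers _)) hs')
          (inv_mem (hP (Subgroup.mem_zpowers _)))) (inv_mem hs')
      refine ⟨⁅y, (s' : G)⁆, hY.comm y hy s', (pel_of_mem P.2 hmem).map H₀.subtype, ?_⟩
      rw [map_commutatorElement, hse']
    · rintro q hq M hM _ hc ⟨y, hy, hyp, rfl⟩
      haveI := Fact.mk hq
      set M₀ := M.comap f
      haveI := hsub M₀ (hcomap M hM)
      have hyp' : PEl q (⟨y, hc⟩ : M₀) := by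
        obtain ⟨a, ha⟩ := hyp; exact ⟨a, Subtype.ext ha⟩
      refine ⟨((Cfsg.pCore q M₀).map M₀.subtype).map f, ?_, ((isPGroup_pCore q).map _).map f, ?_,
        ⟨y, ⟨⟨y, hc⟩, mem_pCore (hY.subgroup M₀) hy hyp', rfl⟩, rfl⟩⟩
      · rintro _ ⟨_, ⟨z, -, rfl⟩, rfl⟩
        exact z.2
      · intro g hg
        obtain ⟨g₀, rfl⟩ := hf g
        have key : ∀ a : M₀, ∀ x ∈ ((Cfsg.pCore q M₀).map M₀.subtype).map f,
            f (a : G) * x * (f (a : G))⁻¹ ∈ ((Cfsg.pCore q M₀).map M₀.subtype).map f := by
          rintro a _ ⟨_, ⟨z, hz, rfl⟩, rfl⟩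
          exact ⟨_, ⟨a * z * a⁻¹, (pCore_normal q).conj_mem z hz a, rfl⟩, by simp⟩
        refine Subgroup.mem_normalizer_iff.mpr fun x => ⟨key ⟨g₀, hg⟩ x, fun hx => ?_⟩
        have := key ⟨g₀, hg⟩⁻¹ _ hx
        simpa [f, mul_assoc] using this
    · intro q hq P hP h hh u hu
      haveI := Fact.mk hq
      obtain ⟨y, hy, hyp, hye⟩ := exists_cm_lift f hf k hP hh hu
      exact ⟨y, hY.cm hy, hyp, hye⟩
    · intro M hM
      haveI := hsub (M.comap f) (hcomap M hM)
      haveI := lcs_nilpotent (hY.subgroup (M.comap f))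
      have hg : Function.Surjective (f.subgroupComap M) :=
        MonoidHom.subgroupComap_surjective_of_surjective f M hf
      have e := Subgroup.map_lowerCentralSeries (⊤ : Subgroup (M.comap f)) (f.subgroupComap M) k
      rw [Subgroup.map_top_of_surjective _ hg] at e
      rw [← e]
      exact Group.nilpotent_of_surjective _ (MonoidHom.subgroupMap_surjective _ _)

theorem nilpotent_lcs_iff {G : Type u} [Group G] [Finite G] (k : ℕ) :
    Group.IsNilpotent ((⊤ : Subgroup G).lowerCentralSeries k) ↔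
      ∀ x y : G, x ∈ Cm G k → y ∈ Cm G k → (orderOf x).Coprime (orderOf y) →
        (∀ r : ℕ, r.Prime → r ∣ orderOf x * orderOf y → r ∣ orderOf (x * y)) ∨
          orderOf x * orderOf y ≤ orderOf (x * y) := by
  constructor
  · intro hn x y hx hy hc
    have h1 : Commute (⟨x, cm_le_lcs k hx⟩ : (⊤ : Subgroup G).lowerCentralSeries k)
        ⟨y, cm_le_lcs k hy⟩ := by
      refine CfsgLib.OddOrder.Basic.commute_of_coprime_orderOf ?_
      rw [← Subgroup.orderOf_coe, ← Subgroup.orderOf_coe]
      exact hc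
    have h2 : Commute x y := congrArg Subtype.val h1.eq
    exact Or.inr (h2.orderOf_mul_eq_mul_orderOf_of_coprime hc).ge
  · intro h
    haveI := solvable_aux k (Nat.card G) G le_rfl _ (good_of_order h)
    exact lcs_nilpotent (good_of_order h)

end CfsgLib.GammaCrit
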