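import Cfsg.Agent.Lib.Solvable.GammaCriterion.Basic

/-!
The criterion in solvable groups: elements of prime power order of the set lie in the cores, and
the term of the lower central series is nilpotent.
-/

set_option autoImplicit false
open scoped commutatorElement
open CfsgLib.Solvable.Cores

universe u

namespace CfsgLib.GammaCrit

theorem comap_pCore_eq_bot {G : Type*} [Group G] [Finite G] {p : ℕ} [Fact p.Prime] :
    Cfsg.pCore p (G ⧸ Cfsg.pCore p G) = ⊥ := by
  set f := QuotientGroup.mk' (Cfsg.pCore p G)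
  have h : (Cfsg.pCore p (G ⧸ Cfsg.pCore p G)).comap f ≤ Cfsg.pCore p G :=
    le_pCore ((isPGroup_pCore p).comap_of_ker_isPGroup f
      (by rw [QuotientGroup.ker_mk']; exact isPGroup_pCore p))
  rw [← Subgroup.map_comap_eq_self_of_surjective (QuotientGroup.mk'_surjective _)
    (Cfsg.pCore p (G ⧸ Cfsg.pCore p G)), Subgroup.map_eq_bot_iff, QuotientGroup.ker_mk']
  exact h

/-- Frattini: an element normalising a `q`-subgroup upstairs covers a given one downstairs. -/
theorem exists_sylow_lift {G Q : Type*} [Group G] [Finite G] [Group Q] (f : G →* Q)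
    (hf : Function.Surjective f) {q : ℕ} [Fact q.Prime] {P₀ : Subgroup Q} (hP₀ : IsPGroup q P₀) :
    ∃ P : Subgroup G, IsPGroup q P ∧ P.map f = P₀ ∧
      ∀ h ∈ Subgroup.normalizer (P₀ : Set Q),
        ∃ n ∈ Subgroup.normalizer (P : Set G), f n = h := by
  set H : Subgroup G := (Subgroup.normalizer (P₀ : Set Q)).comap f with hH
  set H₀ : Subgroup G := P₀.comap f with hH₀
  have hle : H₀ ≤ H := Subgroup.comap_mono Subgroup.le_normalizer
  haveI : (H₀.subgroupOf H).Normal := by
    rw [Subgroup.normal_subgroupOf_iff hle]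
    intro a g ha hg
    show f (g * a * g⁻¹) ∈ P₀
    rw [map_mul, map_mul, map_inv]
    exact (Subgroup.mem_normalizer_iff.mp (show f g ∈ _ from hg) (f a)).mp ha
  obtain ⟨S⟩ : Nonempty (Sylow q (H₀.subgroupOf H)) := inferInstance
  have hFr := Sylow.normalizer_sup_eq_top S
  set S₁ : Subgroup H := (S : Subgroup (H₀.subgroupOf H)).map (H₀.subgroupOf H).subtype with hS₁
  set P : Subgroup G := S₁.map H.subtype with hP
  have hPle : ∀ x ∈ P, f x ∈ P₀ := by
    rintro _ ⟨_, ⟨y, -, rfl⟩, rfl⟩
    exact y.2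
  let g : (H₀.subgroupOf H) →* P₀ :=
    (f.comp (H.subtype.comp (H₀.subgroupOf H).subtype)).codRestrict P₀ fun y => y.2
  have hg : Function.Surjective g := by
    intro y
    obtain ⟨x, hx⟩ := hf y
    have hxm : x ∈ H₀ := show f x ∈ P₀ by rw [hx]; exact y.2
    exact ⟨⟨⟨x, hle hxm⟩, hxm⟩, Subtype.ext hx⟩
  have hcov : ∀ y ∈ P₀, ∃ x ∈ P, f x = y := by
    intro y hy
    have h2 : ((S.mapSurjective hg : Sylow q P₀) : Subgroup P₀) = ⊤ :=
      ((S.mapSurjective hg).3 (Q := ⊤) (hP₀.to_subgroup ⊤) le_top).symm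
    have h3 : (⟨y, hy⟩ : P₀) ∈ ((S.mapSurjective hg : Sylow q P₀) : Subgroup P₀) := by
      rw [h2]; trivial
    obtain ⟨x, hx, hxe⟩ := h3
    exact ⟨_, ⟨_, ⟨x, hx, rfl⟩, rfl⟩, congrArg Subtype.val hxe⟩
  refine ⟨P, (S.2.map _).map _, le_antisymm (fun y ⟨x, hx, he⟩ => he ▸ hPle x hx)
    (fun y hy => hcov y hy), fun h hh => ?_⟩
  obtain ⟨x, hx⟩ := hf h
  have hxH : x ∈ H := show f x ∈ _ by rw [hx]; exact hh
  have h4 : (⟨x, hxH⟩ : H) ∈ Subgroup.normalizer (S₁ : Set H) ⊔ H₀.subgroupOf H := by
    rw [hS₁, hFr]; trivial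
  obtain ⟨n, hn, b, hb, hnb⟩ := (Subgroup.mem_sup_of_normal_right).mp h4
  obtain ⟨b', hb', hbe⟩ := hcov (f (b : G)) hb
  have hn' : (n : G) ∈ Subgroup.normalizer (P : Set G) := by
    refine Subgroup.mem_normalizer_iff.mpr fun a => ⟨?_, ?_⟩
    · rintro ⟨a₁, ha₁, rfl⟩
      exact ⟨_, (Subgroup.mem_normalizer_iff.mp hn a₁).mp ha₁, by simp⟩
    · rintro ⟨a₁, ha₁, he⟩
      refine ⟨n⁻¹ * a₁ * n, (Subgroup.mem_normalizer_iff.mp hn _).mpr ?_, ?_⟩
      · rw [show n * (n⁻¹ * a₁ * n) * n⁻¹ = a₁ by group]; exact ha₁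
      · show ((n⁻¹ * a₁ * n : H) : G) = a
        push_cast
        rw [show (a₁ : G) = n * a * (n : G)⁻¹ from he]; group
  refine ⟨n * b', Subgroup.mul_mem _ hn' (Subgroup.le_normalizer hb'), ?_⟩
  rw [map_mul, hbe, ← map_mul, ← hx]
  exact congrArg f (congrArg Subtype.val hnb)

/-- An iterated commutator of a coprime normalising element downstairs lifts to an element of
prime power order of `Cm`. -/
theorem exists_cm_lift {G Q : Type*} [Group G] [Finite G] [Group Q] [Finite Q] (f : G →* Q)
    (hf : Function.Surjective f) (k : ℕ) {q : ℕ} [Fact q.Prime] {P₀ : Subgroup Q}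
    (hP₀ : IsPGroup q P₀) {h : Q} (hh : h ∈ Subgroup.normalizer (P₀ : Set Q))
    {u : Q} (hu : u ∈ P₀) :
    ∃ y ∈ Cm G k, PEl q y ∧ f y = itc h k u := by
  obtain ⟨P, hP, hPmap, hN⟩ := exists_sylow_lift f hf hP₀
  obtain ⟨n, hn, rfl⟩ := hN h hh
  rw [← hPmap] at hu
  obtain ⟨u₀, hu₀, rfl⟩ := hu
  exact ⟨itc n k u₀, itc_mem_cm n u₀ k, pel_of_mem hP (itc_mem hn k hu₀), map_itc f n k u₀⟩

theorem mem_pCore_aux (k : ℕ) {p : ℕ} [Fact p.Prime] :
    ∀ (m : ℕ) (G : Type u) [Group G] [Finite G], Group.IsSolvable G → Nat.card G ≤ m →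
      ∀ (Y : Set G), Good k Y → ∀ x ∈ Y, PEl p x → x ∈ Cfsg.pCore p G := by
  intro m
  induction m with
  | zero => intro G _ _ _ h; exact absurd h (by have := Nat.card_pos (α := G); omega)
  | succ m ih =>
    intro G _ _ hsol hcard Y hY x hx hxp
    haveI := hsol
    have hp : p.Prime := Fact.out
    set K := Subgroup.normalClosure ({x} : Set G) with hK
    have hxK : x ∈ K := Subgroup.subset_normalClosure rfl
    by_cases hKtop : K ≠ ⊤
    · have hlt : Nat.card K ≤ m := by
        have : Nat.card K ≠ Nat.card G := fun e => hKtop (Subgroup.eq_top_of_card_eq K e)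
        have := Subgroup.card_le_card_group K
        omega
      have hxp' : PEl p (⟨x, hxK⟩ : K) := by
        obtain ⟨a, ha⟩ := hxp; exact ⟨a, Subtype.ext ha⟩
      exact map_pCore_le p K
        ⟨⟨x, hxK⟩, ih K inferInstance hlt _ (hY.subgroup K) _ hx hxp', rfl⟩
    push Not at hKtop
    by_contra hxP
    have hcent : ∀ (U : Subgroup G) [U.Normal], (Nat.card U).Coprime p → U ≤ Subgroup.center G := by
      intro U _ hU u hu
      rw [Subgroup.mem_center_iff]
      intro g
      have hxc : x ∈ Subgroup.centralizer (U : Set G) := by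
        rw [Subgroup.mem_centralizer_iff]
        intro v hv
        exact (hY.commute hx (by rw [Subgroup.normalizer_eq_top]; trivial)
          (hxp.coprime hp (hp.coprime_iff_not_dvd.mp hU.symm)) hv).eq.symm
      have : K ≤ Subgroup.centralizer (U : Set G) :=
        Subgroup.normalClosure_le_normal (Set.singleton_subset_iff.mpr hxc)
      exact (Subgroup.mem_centralizer_iff.mp
        (this (show g ∈ K by rw [hKtop]; trivial)) u hu).symm
    set P := Cfsg.pCore p G with hPdef
    set f := QuotientGroup.mk' P with hfdef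
    have hf := QuotientGroup.mk'_surjective P
    have hFc : Cfsg.fittingSubgroup (G ⧸ P) ≤ Subgroup.center (G ⧸ P) := by
      rw [fittingSubgroup_eq_iSup_pCore]
      refine iSup_le fun l => ?_
      haveI := Fact.mk l.2
      by_cases hl : (l : ℕ) = p
      · rw [hl, comap_pCore_eq_bot]; exact bot_le
      set N := Cfsg.pCore (l : ℕ) (G ⧸ P) with hN
      set V : Subgroup G := N.comap f with hV
      obtain ⟨W⟩ : Nonempty (Sylow (l : ℕ) V) := inferInstance
      set Wm := (W : Subgroup V).map V.subtype with hWm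
      have hWp : IsPGroup (l : ℕ) Wm := W.2.map _
      have hFr := Sylow.normalizer_sup_eq_top W
      have hVP : V ≤ P ⊔ Wm := by
        have hg : Function.Surjective (f.subgroupComap N) :=
          MonoidHom.subgroupComap_surjective_of_surjective f N hf
        have h1 : ((W.mapSurjective hg : Sylow (l : ℕ) N) : Subgroup N) = ⊤ :=
          ((W.mapSurjective hg).3 (Q := ⊤) ((isPGroup_pCore _).to_subgroup ⊤)
            le_top).symm
        intro v hv
        have h2 : (⟨f v, hv⟩ : N) ∈ ((W.mapSurjective hg : Sylow (l : ℕ) N) : Subgroup N) := by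
          rw [h1]; trivial
        obtain ⟨w, hw, hwe⟩ := h2
        have hwe' : f (w : G) = f v := congrArg Subtype.val hwe
        have h3 : v * (w : G)⁻¹ ∈ P := by
          rw [← QuotientGroup.eq_one_iff]
          show f (v * (w : G)⁻¹) = 1
          rw [map_mul, map_inv, hwe', mul_inv_cancel]
        rw [show v = v * (w : G)⁻¹ * w by group]
        exact Subgroup.mul_mem_sup h3 ⟨w, hw, rfl⟩
      have htop : Subgroup.normalizer (Wm : Set G) ⊔ P = ⊤ := by
        rw [eq_top_iff, ← hFr]
        exact sup_le le_sup_left (hVP.trans (sup_le le_sup_right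
          (Subgroup.le_normalizer.trans le_sup_left)))
      obtain ⟨n₀, hn₀, hn₀e⟩ : ∃ n₀ ∈ Subgroup.normalizer (Wm : Set G), f n₀ = f x := by
        have : x ∈ Subgroup.normalizer (Wm : Set G) ⊔ P := by rw [htop]; trivial
        obtain ⟨n, hn, b, hb, rfl⟩ := Subgroup.mem_sup_of_normal_right.mp this
        exact ⟨n, hn, by rw [map_mul, (QuotientGroup.eq_one_iff b).mpr hb |> (fun e => (show f b = 1 from e)), mul_one]⟩
      obtain ⟨n, hnz, hnp, hne⟩ := exists_pel_lift hp f n₀ (by rw [hn₀e]; exact hxp.map f)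
      have hnN : n ∈ Subgroup.normalizer (Wm : Set G) :=
        Subgroup.zpowers_le.mpr hn₀ hnz
      have hcopW : ∀ a ∈ Wm, (orderOf n).Coprime (orderOf a) := by
        intro a ha
        refine hnp.coprime hp fun hd => ?_
        obtain ⟨b, hb⟩ := (pel_of_mem hWp ha).orderOf l.2
        rw [hb] at hd
        exact hl ((Nat.prime_dvd_prime_iff_eq hp l.2).mp (hp.dvd_of_dvd_pow hd)).symm
      have hcomm : ∀ w ∈ Wm, Commute w n := by
        intro w hw
        refine commute_of_itc hnN hcopW (k + 1) hw ?_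
        set y := itc n k w with hy
        have hyW : y ∈ Wm := itc_mem hnN k hw
        have hyC : y ∈ Subgroup.centralizer (P : Set G) := by
          rw [Subgroup.mem_centralizer_iff]
          intro v hv
          refine (hY.commute (hY.cm (itc_mem_cm n w k)) (V := P)
            (by rw [Subgroup.normalizer_eq_top]; trivial) ?_ hv).eq.symm
          refine (pel_of_mem hWp hyW).coprime l.2 fun hd => ?_
          exact l.2.coprime_iff_not_dvd.mp
            (coprime_card_pCore l.2 (fun e => hl e.symm)).symm hd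
        set C := Subgroup.centralizer (P : Set G) ⊓ Wm with hC
        haveI : C.Normal := by
          constructor
          intro c hc g
          have hg : g ∈ Subgroup.normalizer (Wm : Set G) ⊔ P := by rw [htop]; trivial
          obtain ⟨n', hn', b, hb, rfl⟩ := Subgroup.mem_sup_of_normal_right.mp hg
          have hbc : b * c * b⁻¹ = c := by
            rw [Subgroup.mem_centralizer_iff.mp hc.1 b hb]; group
          rw [show n' * b * c * (n' * b)⁻¹ = n' * (b * c * b⁻¹) * n'⁻¹ by group, hbc]
          exact ⟨(inferInstance : (Subgroup.centralizer (P : Set G)).Normal).conj_mem c hc.1 n',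
            (Subgroup.mem_normalizer_iff.mp hn' c).mp hc.2⟩
        have hCcard : (Nat.card C).Coprime p := by
          obtain ⟨b, hb⟩ := IsPGroup.iff_card.mp (hWp.to_le (inf_le_right : C ≤ Wm))
          rw [hb]
          exact ((Nat.coprime_primes l.2 hp).mpr hl).pow_left b
        have hyZ := hcent C hCcard ⟨hyC, hyW⟩
        rw [itc_succ']
        exact commutatorElement_eq_one_iff_mul_comm.mpr (Subgroup.mem_center_iff.mp hyZ n).symm
      intro z hz
      rw [Subgroup.mem_center_iff]
      have hxc : x ∈ (Subgroup.centralizer (N : Set (G ⧸ P))).comap f := by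
        rw [Subgroup.mem_comap, Subgroup.mem_centralizer_iff]
        intro z' hz'
        obtain ⟨v, rfl⟩ := hf z'
        obtain ⟨b, hb, w, hw, rfl⟩ := Subgroup.mem_sup_of_normal_left.mp (hVP hz')
        rw [map_mul, (QuotientGroup.eq_one_iff b).mpr hb |> (fun e => (show f b = 1 from e)),
          one_mul, ← hn₀e, ← hne, ← map_mul, ← map_mul, (hcomm w hw).eq]
      have hall : K ≤ (Subgroup.centralizer (N : Set (G ⧸ P))).comap f :=
        Subgroup.normalClosure_le_normal (Set.singleton_subset_iff.mpr hxc)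
      intro g
      obtain ⟨g₀, rfl⟩ := hf g
      exact (Subgroup.mem_centralizer_iff.mp
        (hall (show g₀ ∈ K by rw [hKtop]; trivial)) z hz).symm
    have hFtop : Cfsg.fittingSubgroup (G ⧸ P) = ⊤ := by
      rw [eq_top_iff]
      intro g _
      refine centralizer_fittingSubgroup_le ?_
      rw [Subgroup.mem_centralizer_iff]
      intro z hz
      exact (Subgroup.mem_center_iff.mp (hFc hz) g).symm
    have hle : Cfsg.fittingSubgroup (G ⧸ P) ≤ Cfsg.pPrimeCore p (G ⧸ P) := by
      rw [fittingSubgroup_eq_iSup_pCore]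
      refine iSup_le fun l => ?_
      haveI := Fact.mk l.2
      by_cases hl : (l : ℕ) = p
      · rw [hl, comap_pCore_eq_bot]; exact bot_le
      · exact pCore_le_pPrimeCore hp hl
    rw [hFtop] at hle
    have h1 : (orderOf (f x)).Coprime p :=
      (coprime_card_pPrimeCore p).coprime_dvd_left
        ((Cfsg.pPrimeCore p (G ⧸ P)).orderOf_dvd_natCard (hle (Subgroup.mem_top _)))
    obtain ⟨a, ha⟩ := (hxp.map f).orderOf hp
    rw [ha] at h1
    rcases Nat.eq_zero_or_pos a with rfl | ha0
    · exact hxP ((QuotientGroup.eq_one_iff x).mp (orderOf_eq_one_iff.mp (ha.trans (pow_zero p))))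
    · exact hp.coprime_iff_not_dvd.mp h1.symm (dvd_pow_self p ha0.ne')

/-- In a solvable group the elements of prime power order of the set lie in the cores. -/
theorem mem_pCore {G : Type u} [Group G] [Finite G] [hs : Group.IsSolvable G] {k : ℕ}
    {Y : Set G} (hY : Good k Y) {p : ℕ} [Fact p.Prime] {x : G} (hx : x ∈ Y) (hxp : PEl p x) :
    x ∈ Cfsg.pCore p G :=
  mem_pCore_aux k (Nat.card G) G hs le_rfl Y hY x hx hxp

theorem lcs_nilpotent {G : Type u} [Group G] [Finite G] [Group.IsSolvable G] {k : ℕ}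
    {Y : Set G} (hY : Good k Y) :
    Group.IsNilpotent ((⊤ : Subgroup G).lowerCentralSeries k) := by
  set F := Cfsg.fittingSubgroup G with hF
  set f := QuotientGroup.mk' F with hfdef
  have hf := QuotientGroup.mk'_surjective F
  have hkill : ∀ (q : ℕ) [Fact q.Prime] (y : G), y ∈ Cm G k → PEl q y → f y = 1 := fun q _ y hy hyq =>
    (QuotientGroup.eq_one_iff y).mpr
      (pCore_le_fittingSubgroup q (mem_pCore hY (hY.cm hy) hyq))
  have hnpc : ∀ (q : ℕ) [Fact q.Prime], Cfsg.HasNormalPComplement q (G ⧸ F) := by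
    intro q _
    obtain ⟨S⟩ : Nonempty (Sylow q (G ⧸ F)) := inferInstance
    refine CfsgLib.Fusion.Alperin.npc_of_frobenius S fun Q hQ g hg hgc => ?_
    have hQp : IsPGroup q Q := S.2.to_le hQ
    rw [Subgroup.mem_centralizer_iff]
    intro u hu
    obtain ⟨y, hy, hyq, hye⟩ := exists_cm_lift f hf k hQp hg hu
    refine (commute_of_itc hg (fun a ha => ?_) k hu (by rw [← hye]; exact hkill q y hy hyq)).eq
    obtain ⟨b, hb⟩ := (pel_of_mem hQp ha).orderOf (Fact.out : q.Prime)
    rw [hb]; exact hgc.pow_right b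
  have h1 : ∀ x ∈ Cm G k, x ∈ F := by
    intro x hx
    rw [← QuotientGroup.eq_one_iff]
    show f x = 1
    refine eq_one_of_complements fun q hq => ?_
    haveI := Fact.mk hq
    obtain ⟨S, N, hN, hc⟩ := hnpc q
    haveI := hN
    refine ⟨N, hN, ?_, ?_⟩
    · refine (hq.coprime_iff_not_dvd.mpr fun hd => ?_).symm
      rw [← hc.index_eq_card] at hd
      exact S.not_dvd_index hd
    set g := (QuotientGroup.mk' N).comp f with hg
    have hgs : Function.Surjective g := (QuotientGroup.mk'_surjective N).comp hf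
    have hQp : IsPGroup q ((G ⧸ F) ⧸ N) := by
      obtain ⟨b, hb⟩ := IsPGroup.iff_card.mp S.2
      refine IsPGroup.of_card (n := b) ?_
      rw [← hb, ← Subgroup.index_eq_card, hc.symm.index_eq_card]
    obtain ⟨T⟩ : Nonempty (Sylow q G) := inferInstance
    have htop : ((T.mapSurjective hgs : Sylow q _) : Subgroup ((G ⧸ F) ⧸ N)) = ⊤ :=
      ((T.mapSurjective hgs).3 (Q := ⊤) (hQp.to_subgroup ⊤) le_top).symm
    have hsur : Function.Surjective (g.comp (T : Subgroup G).subtype) := by
      intro z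
      have : z ∈ ((T.mapSurjective hgs : Sylow q _) : Subgroup ((G ⧸ F) ⧸ N)) := by
        rw [htop]; trivial
      obtain ⟨t, ht, rfl⟩ := this
      exact ⟨⟨t, ht⟩, rfl⟩
    obtain ⟨t, ht, hte⟩ := cm_lift hsur k (cm_map g k hx)
    have h2 := hkill q (t : G) (cm_map (T : Subgroup G).subtype k ht) (pel_of_mem T.2 t.2)
    rw [← QuotientGroup.eq_one_iff]
    show g x = 1
    rw [← hte]
    show QuotientGroup.mk' N (f (t : G)) = 1
    rw [h2, map_one]
  have hle := lcs_le_of_cm k F h1
  haveI : Group.IsNilpotent F := fittingSubgroup_isNilpotent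
  exact Group.nilpotent_of_mulEquiv (Subgroup.subgroupOfEquivOfLe hle)

end CfsgLib.GammaCrit
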